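import Groth.Agent.S18203
import Mathlib.AlgebraicGeometry.IdealSheaf.Functorial
import Mathlib.AlgebraicGeometry.Morphisms.ClosedImmersion
import Mathlib.AlgebraicGeometry.Morphisms.UniversallyInjective
import Mathlib.RingTheory.Localization.LocalizationLocalization
import Mathlib.RingTheory.Localization.BaseChange
import Mathlib.Algebra.Category.Ring.Constructions

/-!
# Localizing immersions
-/

set_option autoImplicit false

universe u

open CategoryTheory AlgebraicGeometry TopologicalSpace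

namespace Groth.Agent.LocImmX

variable {X Y : Scheme.{u}}

/-- Localizing ring maps restrict to basic opens. -/
theorem isLocHom_away {A B A' B' : Type u} [CommRing A] [CommRing B] [CommRing A'] [CommRing B']
    [Algebra A B] [Algebra A A'] [Algebra B B'] [Algebra A B'] [Algebra A' B'] [IsScalarTower A B B']
    [IsScalarTower A A' B'] (M : Submonoid A) [IsLocalization M B] (g : A) [IsLocalization.Away g A']
    [IsLocalization.Away (algebraMap A B g) B'] : ∃ S : Submonoid A', IsLocalization S B' := by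
  let N := Submonoid.powers (algebraMap A B g)
  haveI := IsLocalization.localization_localization_isLocalization M N B'
  refine ⟨_, IsLocalization.isLocalization_of_submonoid_le (R := A) A' B' (Submonoid.powers g)
    (IsLocalization.localizationLocalizationSubmodule M N) ?_⟩
  rintro _ ⟨k, rfl⟩
  exact Submonoid.mem_sup_left ⟨k, (map_pow _ g k).symm⟩

/-- Around every point a localizing immersion is affine and localizing over an affine open. -/
theorem exists_affine_chart [IsNoetherian X] [IsNoetherian Y] (f : X ⟶ Y) (hf : LocImm.IsLocImmersion f)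
    (x : X) : ∃ V : Y.Opens, f x ∈ V ∧ IsAffineOpen V ∧ IsAffineOpen (f ⁻¹ᵁ V) ∧
      LocImm.IsLocHom (f.app V).hom := by
  have he := (S18203.result f hf).1
  obtain ⟨U, V', hxV', e, hφ⟩ := hf.1 x
  obtain ⟨O, hO, hOV⟩ := he.isInducing.isOpen_iff.1 V'.1.isOpen
  have hfxO : f x ∈ O := by
    have : x ∈ (fun x => f x) ⁻¹' O := hOV ▸ hxV'
    exact this
  obtain ⟨g, hgO, hxg⟩ := U.2.exists_basicOpen_le (V := ⟨O, hO⟩) ⟨f x, hfxO⟩ (e hxV')
  let gB := (f.appLE U.1 V'.1 e).hom g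
  have hpre : X.basicOpen gB = f ⁻¹ᵁ Y.basicOpen g := by
    rw [Scheme.basicOpen_appLE]
    refine inf_eq_right.2 fun z hz => ?_
    exact hOV.le (show z ∈ (fun x => f x) ⁻¹' O from hgO hz)
  refine ⟨Y.basicOpen g, hxg, U.2.basicOpen g, hpre ▸ V'.2.basicOpen gB, ?_⟩
  letI : Algebra Γ(Y, U.1) Γ(X, V'.1) := (f.appLE U.1 V'.1 e).hom.toAlgebra
  obtain ⟨M, hM⟩ := hφ
  letI : Algebra Γ(Y, U.1) Γ(Y, Y.basicOpen g) :=
    (Y.presheaf.map (homOfLE (Y.basicOpen_le g)).op).hom.toAlgebra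
  have hle : f ⁻¹ᵁ Y.basicOpen g ≤ V'.1 := hpre ▸ X.basicOpen_le gB
  letI : Algebra Γ(X, V'.1) Γ(X, f ⁻¹ᵁ Y.basicOpen g) := (X.presheaf.map (homOfLE hle).op).hom.toAlgebra
  letI : Algebra Γ(Y, Y.basicOpen g) Γ(X, f ⁻¹ᵁ Y.basicOpen g) := (f.app (Y.basicOpen g)).hom.toAlgebra
  letI : Algebra Γ(Y, U.1) Γ(X, f ⁻¹ᵁ Y.basicOpen g) :=
    (f.appLE U.1 _ (f.preimage_mono (Y.basicOpen_le g))).hom.toAlgebra
  haveI : IsScalarTower Γ(Y, U.1) Γ(X, V'.1) Γ(X, f ⁻¹ᵁ Y.basicOpen g) :=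
    IsScalarTower.of_algebraMap_eq' (by
      simp only [RingHom.algebraMap_toAlgebra, ← CommRingCat.hom_comp, Scheme.Hom.appLE_map])
  haveI : IsScalarTower Γ(Y, U.1) Γ(Y, Y.basicOpen g) Γ(X, f ⁻¹ᵁ Y.basicOpen g) :=
    IsScalarTower.of_algebraMap_eq' (by
      simp only [RingHom.algebraMap_toAlgebra, ← CommRingCat.hom_comp,
        Scheme.Hom.app_eq_appLE, Scheme.Hom.map_appLE])
  haveI : IsLocalization.Away g Γ(Y, Y.basicOpen g) := U.2.isLocalization_basicOpen g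
  haveI : IsLocalization.Away (algebraMap Γ(Y, U.1) Γ(X, V'.1) g) Γ(X, f ⁻¹ᵁ Y.basicOpen g) :=
    V'.2.isLocalization_of_eq_basicOpen gB (homOfLE hle) hpre.symm
  exact isLocHom_away (A := Γ(Y, U.1)) (B := Γ(X, V'.1)) M g

theorem isLocImmersion_of_charts (f : X ⟶ Y)
    (h : ∀ x : X, ∃ V : Y.Opens, f x ∈ V ∧ IsAffineOpen V ∧ IsAffineOpen (f ⁻¹ᵁ V) ∧
      LocImm.IsLocHom (f.app V).hom) : LocImm.IsLocImmersion f := by
  refine ⟨fun x => ?_, fun x x' hxx' => ?_⟩
  · obtain ⟨V, hxV, hV, hV', hφ⟩ := h x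
    exact ⟨⟨V, hV⟩, ⟨f ⁻¹ᵁ V, hV'⟩, hxV, le_rfl, by rwa [← Scheme.Hom.app_eq_appLE]⟩
  · obtain ⟨V, hxV, hV, hV', hφ⟩ := h x
    have hx'V : f x' ∈ V := hxx' ▸ hxV
    obtain ⟨p, hp⟩ : x ∈ Set.range hV'.fromSpec := by rw [hV'.range_fromSpec]; exact hxV
    obtain ⟨p', hp'⟩ : x' ∈ Set.range hV'.fromSpec := by rw [hV'.range_fromSpec]; exact hx'V
    letI := (f.app V).hom.toAlgebra
    obtain ⟨M, hM⟩ := hφ
    have h1 : IsPreimmersion (Spec.map (f.app V)) :=
      IsPreimmersion.of_isLocalization (R := Γ(Y, V)) (S := Γ(X, f ⁻¹ᵁ V)) M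
    have e1 : Spec.map (f.app V) ≫ hV.fromSpec = hV'.fromSpec ≫ f := by
      rw [Scheme.Hom.app_eq_appLE]
      exact hV.SpecMap_appLE_fromSpec f hV' le_rfl
    have : p = p' := by
      refine (Spec.map (f.app V) ≫ hV.fromSpec).isEmbedding.injective ?_
      rw [e1, Scheme.Hom.comp_apply, Scheme.Hom.comp_apply, hp, hp']
      exact hxx'
    rw [← hp, this, hp']

theorem isPreimmersion_of_isLocImmersion [IsNoetherian X] [IsNoetherian Y] (f : X ⟶ Y)
    (hf : LocImm.IsLocImmersion f) : IsPreimmersion f := by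
  obtain ⟨he, -, hs⟩ := S18203.result f hf
  haveI : SurjectiveOnStalks f :=
    ⟨fun x => haveI := hs x; (ConcreteCategory.bijective_of_isIso (f.stalkMap x)).2⟩
  exact { isEmbedding := he }

theorem flat_of_isLocImmersion [IsNoetherian X] [IsNoetherian Y] (f : X ⟶ Y)
    (hf : LocImm.IsLocImmersion f) : Flat f :=
  Flat.of_stalkMap f fun x => by
    haveI := (S18203.result f hf).2.2 x
    exact RingHom.Flat.of_bijective (ConcreteCategory.bijective_of_isIso (f.stalkMap x))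

theorem isOpenImmersion_of_isOpen_range [IsNoetherian X] [IsNoetherian Y] (f : X ⟶ Y)
    (hf : LocImm.IsLocImmersion f) (ho : IsOpen (Set.range fun x => f x)) : IsOpenImmersion f := by
  obtain ⟨he, -, hs⟩ := S18203.result f hf
  exact IsOpenImmersion.iff_isIso_stalkMap.2 ⟨⟨he, ho⟩, hs⟩

/-- A closed set stable under generalisation in a Noetherian space is open. -/
theorem isOpen_of_isClosed_of_stableUnderGeneralization {T : Type*} [TopologicalSpace T]
    [NoetherianSpace T] [QuasiSober T] {C : Set T} (hC : IsClosed C)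
    (hg : StableUnderGeneralization C) : IsOpen C := by
  rw [← isClosed_compl_iff]
  obtain ⟨S, hSf, hSc, hS, hSeq⟩ :=
    NoetherianSpace.exists_finite_set_isClosed_irreducible (isClosed_closure (s := Cᶜ))
  let S' : Set (Set T) := {Z ∈ S | (Z ∩ Cᶜ).Nonempty}
  have hS' : IsClosed (⋃₀ S') := by
    rw [Set.sUnion_eq_biUnion]; exact (hSf.subset fun Z hZ => hZ.1).isClosed_biUnion fun Z hZ => hSc Z hZ.1
  refine isClosed_of_closure_subset fun z hz => ?_
  obtain ⟨Z, ⟨hZ, w, hwZ, hwC⟩, hzZ⟩ := closure_minimal (fun w hw => by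
    obtain ⟨Z, hZ, hwZ⟩ := (hSeq ▸ subset_closure hw : w ∈ ⋃₀ S)
    exact ⟨Z, ⟨hZ, w, hwZ, hw⟩, hwZ⟩) hS' hz
  intro hzC
  have hgen := (hS Z hZ).isGenericPoint_genericPoint (hSc Z hZ)
  exact (hgen.specializes hwZ).mem_open hC.isOpen_compl hwC (hg (hgen.specializes hzZ) hzC)

/-- Localizing is invariant under isomorphisms of arrows. -/
theorem isLocHom_of_arrow_iso {A B A' B' : CommRingCat.{u}} {φ : A ⟶ B} {φ' : A' ⟶ B'}
    (e : Arrow.mk φ ≅ Arrow.mk φ') (h : LocImm.IsLocHom φ.hom) : LocImm.IsLocHom φ'.hom := by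
  let a : A ≅ A' := Arrow.leftFunc.mapIso e
  let b : B ≅ B' := Arrow.rightFunc.mapIso e
  have w : a.hom ≫ φ' = φ ≫ b.hom := e.hom.w
  letI := φ.hom.toAlgebra
  obtain ⟨M, hM⟩ := h
  letI : Algebra A B' := (φ ≫ b.hom).hom.toAlgebra
  haveI : IsLocalization M B' := IsLocalization.isLocalization_of_algEquiv M
    (AlgEquiv.ofRingEquiv (f := b.commRingCatIsoToRingEquiv) fun _ => rfl)
  have h2 := IsLocalization.isLocalization_of_base_ringEquiv M B' a.commRingCatIsoToRingEquiv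
  refine ⟨M.map a.commRingCatIsoToRingEquiv.toMonoidHom, ?_⟩
  have he : ((algebraMap A B').comp a.commRingCatIsoToRingEquiv.symm.toRingHom) = φ'.hom := by
    show (a.inv ≫ φ ≫ b.hom).hom = φ'.hom
    rw [← w, Iso.inv_hom_id_assoc]
  show @IsLocalization A' _ _ B' _ φ'.hom.toAlgebra
  rw [← he]
  exact h2

/-- Base change of localizing ring maps. -/
theorem isLocHom_of_isPushout {A B C D : CommRingCat.{u}} {φ : A ⟶ B} {a : A ⟶ C} {b : B ⟶ D}
    {ψ : C ⟶ D} (h : IsPushout a φ ψ b) (hφ : LocImm.IsLocHom φ.hom) : LocImm.IsLocHom ψ.hom := by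
  letI := φ.hom.toAlgebra
  letI := a.hom.toAlgebra
  letI := ψ.hom.toAlgebra
  letI := b.hom.toAlgebra
  letI : Algebra A D := (a ≫ ψ).hom.toAlgebra
  haveI : IsScalarTower A C D := IsScalarTower.of_algebraMap_eq' rfl
  haveI : IsScalarTower A B D := IsScalarTower.of_algebraMap_eq' (by
    simp only [RingHom.algebraMap_toAlgebra, ← CommRingCat.hom_comp, h.w])
  obtain ⟨M, hM⟩ := hφ
  exact ⟨Algebra.algebraMapSubmonoid C M, (Algebra.isLocalization_iff_isPushout M B).2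
    (CommRingCat.isPushout_iff_isPushout.1 h)⟩

open Limits in
/-- Base change of localizing immersions. -/
theorem isLocalizing_pullback_snd [IsNoetherian X] [IsNoetherian Y] {Y' : Scheme.{u}} (f : X ⟶ Y)
    (g : Y' ⟶ Y) (hf : LocImm.IsLocImmersion f) : LocImm.IsLocalizing (pullback.snd f g) := by
  intro p
  obtain ⟨V, hxV, hV, hU, hφ⟩ := exists_affine_chart f hf (pullback.fst f g p)
  have hy' : g (pullback.snd f g p) ∈ V := by
    rw [← Scheme.Hom.comp_apply, ← pullback.condition, Scheme.Hom.comp_apply]; exact hxV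
  obtain ⟨_, ⟨W, hW, rfl⟩, hpW, hWV⟩ :=
    Y'.isBasis_affineOpens.exists_subset_of_mem_open (show pullback.snd f g p ∈ (g ⁻¹ᵁ V : Y'.Opens) from hy')
      (g ⁻¹ᵁ V).isOpen
  let P' := pullback.snd f g ⁻¹ᵁ W
  have hsub : P' ≤ pullback.fst f g ⁻¹ᵁ (f ⁻¹ᵁ V) := fun z hz => by
    show f (pullback.fst f g z) ∈ V
    rw [← Scheme.Hom.comp_apply, pullback.condition, Scheme.Hom.comp_apply]
    exact hWV hz
  have H := Scheme.Hom.isPullback_resLE (IsPullback.of_hasPullback f g) (US := V) (UT := W)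
    (UX := f ⁻¹ᵁ V) hWV le_rfl (UY := P') (inf_eq_right.2 hsub).symm
  haveI : IsAffine V.toScheme := hV
  haveI : IsAffine (f ⁻¹ᵁ V : X.Opens).toScheme := hU
  haveI : IsAffine (Scheme.Opens.toScheme (X := Y') W) := hW
  have hP' : IsAffineOpen P' := IsAffine.of_isPullback H
  have hpo := isPushout_appTop_of_isPullback H
  have h1 : LocImm.IsLocHom (Scheme.Hom.appTop (f.resLE V (f ⁻¹ᵁ V) le_rfl)).hom :=
    isLocHom_of_arrow_iso (arrowResLEAppIso f V (f ⁻¹ᵁ V) le_rfl).symm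
      (by rwa [← Scheme.Hom.app_eq_appLE])
  have h2 := isLocHom_of_isPushout hpo.flip h1
  have h3 := isLocHom_of_arrow_iso (arrowResLEAppIso (pullback.snd f g) W P' _) h2
  exact ⟨⟨W, hW⟩, ⟨P', hP'⟩, hpW, le_rfl, h3⟩

theorem exists_comap_eq [IsNoetherian X] [IsNoetherian Y] (f : X ⟶ Y) (hf : LocImm.IsLocImmersion f)
    (I : X.IdealSheafData) : (I.map f).comap f = I := by
  refine le_antisymm (Scheme.IdealSheafData.comap_map_le I f) ?_
  choose V hxV hV hU hφ using exists_affine_chart f hf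
  refine Scheme.IdealSheafData.le_of_iSup_eq_top (fun x : X => ⟨f ⁻¹ᵁ V x, hU x⟩)
    (eq_top_iff.2 fun x _ => Opens.mem_iSup.2 ⟨x, hxV x⟩) fun x => ?_
  have h1 := ((I.map f).le_map_comap f) ⟨V x, hV x⟩
  rw [Scheme.IdealSheafData.ideal_map _ f ⟨V x, hV x⟩ (hU x),
    Scheme.IdealSheafData.ideal_map _ f ⟨V x, hV x⟩ (hU x)] at h1
  letI := (f.app (V x)).hom.toAlgebra
  obtain ⟨M, hM⟩ := hφ x
  calc I.ideal ⟨f ⁻¹ᵁ V x, hU x⟩ =
      ((I.ideal ⟨f ⁻¹ᵁ V x, hU x⟩).comap (algebraMap Γ(Y, V x) Γ(X, f ⁻¹ᵁ V x))).map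
        (algebraMap Γ(Y, V x) Γ(X, f ⁻¹ᵁ V x)) := (IsLocalization.map_under M _ _).symm
    _ ≤ _ := Ideal.map_le_iff_le_comap.2 h1

end Groth.Agent.LocImmX
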