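import Groth.Agent.LocImmX.Ess
import Groth.Agent.S18204
import Mathlib.AlgebraicGeometry.Limits
import Mathlib.AlgebraicGeometry.Morphisms.Separated
import Mathlib.AlgebraicGeometry.Morphisms.QuasiSeparated

/-!
# Gluing finite type models of separated morphisms essentially of finite type
-/

set_option autoImplicit false
set_option backward.isDefEq.respectTransparency false
set_option backward.isDefEq.respectTransparency.types false

universe u

open CategoryTheory CategoryTheory.Limits AlgebraicGeometry TopologicalSpace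

namespace Groth.Agent.LocImmX

variable {X Y₁ Y₂ S : Scheme.{u}}

theorem isNoetherian_of_finiteType {Y : Scheme.{u}} [IsNoetherian S] (p : Y ⟶ S) [LocallyOfFiniteType p]
    [QuasiCompact p] : IsNoetherian Y where
  toIsLocallyNoetherian := LocallyOfFiniteType.isLocallyNoetherian p
  toCompactSpace := QuasiCompact.compactSpace_of_compactSpace p

theorem isNoetherian_opens {Y : Scheme.{u}} [IsNoetherian Y] (U : Y.Opens) : IsNoetherian U.toScheme where
  toIsLocallyNoetherian := isLocallyNoetherian_of_isOpenImmersion U.ι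
  toCompactSpace := isCompact_iff_compactSpace.1 (NoetherianSpace.isCompact (U : Set Y))

/-- Two finite type models agree on an open piece of the schematic image in the product. -/
theorem exists_common_open [IsNoetherian X] [IsNoetherian Y₁] [IsNoetherian Y₂] [IsNoetherian S]
    (f₁ : X ⟶ Y₁) (f₂ : X ⟶ Y₂) (π₁ : Y₁ ⟶ S) (π₂ : Y₂ ⟶ S)
    (hf₁ : LocImm.IsLocImmersion f₁) (hf₂ : LocImm.IsLocImmersion f₂)
    [IsSeparated π₁] [IsSeparated π₂] [LocallyOfFiniteType π₁] [LocallyOfFiniteType π₂]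
    (h : f₁ ≫ π₁ = f₂ ≫ π₂) :
    ∃ (W : (pullback.lift f₁ f₂ h).image.Opens) (k : X ⟶ W.toScheme),
      k ≫ W.ι = (pullback.lift f₁ f₂ h).toImage ∧ LocImm.IsLocImmersion k ∧
      IsOpenImmersion (W.ι ≫ (pullback.lift f₁ f₂ h).imageι ≫ pullback.fst π₁ π₂) ∧
      IsOpenImmersion (W.ι ≫ (pullback.lift f₁ f₂ h).imageι ≫ pullback.snd π₁ π₂) := by
  haveI : IsNoetherian (pullback π₁ π₂) := isNoetherian_of_finiteType (pullback.fst π₁ π₂)
  set H := pullback.lift f₁ f₂ h with hH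
  haveI : IsNoetherian H.image := isNoetherian_of_finiteType H.imageι
  have hfst : H ≫ pullback.fst π₁ π₂ = f₁ := pullback.lift_fst ..
  have hsnd : H ≫ pullback.snd π₁ π₂ = f₂ := pullback.lift_snd ..
  have hk : LocImm.IsLocImmersion H.toImage := isLocImmersion_toImage H (pullback.fst π₁ π₂) (by rwa [hfst])
  obtain ⟨U₁, hr₁, hU₁⟩ := exists_open_isLocImmersion H.toImage f₁ (H.imageι ≫ pullback.fst π₁ π₂) hk hf₁
    (by rw [H.toImage_imageι_assoc, hfst])
  obtain ⟨U₂, hr₂, hU₂⟩ := exists_open_isLocImmersion H.toImage f₂ (H.imageι ≫ pullback.snd π₁ π₂) hk hf₂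
    (by rw [H.toImage_imageι_assoc, hsnd])
  let W := U₁ ⊓ U₂
  haveI := isNoetherian_opens W
  haveI := isNoetherian_opens U₁
  haveI := isNoetherian_opens U₂
  have h1 : LocImm.IsLocImmersion (W.ι ≫ H.imageι ≫ pullback.fst π₁ π₂) := by
    rw [← H.image.homOfLE_ι (inf_le_left : W ≤ U₁), Category.assoc]
    exact isLocImmersion_comp _ _ (isLocImmersion_of_isOpenImmersion _) hU₁
  have h2 : LocImm.IsLocImmersion (W.ι ≫ H.imageι ≫ pullback.snd π₁ π₂) := by
    rw [← H.image.homOfLE_ι (inf_le_right : W ≤ U₂), Category.assoc]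
    exact isLocImmersion_comp _ _ (isLocImmersion_of_isOpenImmersion _) hU₂
  have hr : Set.range H.toImage ⊆ Set.range W.ι := by
    rw [Scheme.Opens.range_ι]
    exact fun z hz => ⟨hr₁ hz, hr₂ hz⟩
  refine ⟨W, IsOpenImmersion.lift W.ι H.toImage hr, IsOpenImmersion.lift_fac _ _ _, ?_,
    S18204.result _ h1, S18204.result _ h2⟩
  exact isLocImmersion_of_comp_isOpenImmersion _ W.ι (by rwa [IsOpenImmersion.lift_fac])

theorem exists_locImmersion_openImmersions [IsNoetherian X] [IsNoetherian Y₁] [IsNoetherian Y₂] [IsNoetherian S]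
    (f₁ : X ⟶ Y₁) (f₂ : X ⟶ Y₂) (π₁ : Y₁ ⟶ S) (π₂ : Y₂ ⟶ S)
    (hf₁ : LocImm.IsLocImmersion f₁) (hf₂ : LocImm.IsLocImmersion f₂)
    [IsSeparated π₁] [IsSeparated π₂] [LocallyOfFiniteType π₁] [LocallyOfFiniteType π₂]
    (h : f₁ ≫ π₁ = f₂ ≫ π₂) :
    ∃ (W : Scheme.{u}) (k : X ⟶ W) (g₁ : W ⟶ Y₁) (g₂ : W ⟶ Y₂), LocImm.IsLocImmersion k ∧ IsOpenImmersion g₁ ∧
      IsOpenImmersion g₂ ∧ g₁ ≫ π₁ = g₂ ≫ π₂ ∧ k ≫ g₁ = f₁ ∧ k ≫ g₂ = f₂ := by
  obtain ⟨W, k, hkW, hk, h1, h2⟩ := exists_common_open f₁ f₂ π₁ π₂ hf₁ hf₂ h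
  refine ⟨W, k, _, _, hk, h1, h2, ?_, ?_, ?_⟩
  · simp only [Category.assoc, pullback.condition]
  · rw [reassoc_of% hkW, Scheme.Hom.toImage_imageι_assoc, pullback.lift_fst]
  · rw [reassoc_of% hkW, Scheme.Hom.toImage_imageι_assoc, pullback.lift_snd]

/-- A cover by two open immersions. -/
noncomputable def cover2 {A B X : Scheme.{u}} (a : A ⟶ X) (b : B ⟶ X) [IsOpenImmersion a] [IsOpenImmersion b]
    (h : ∀ x, (∃ z, a z = x) ∨ ∃ z, b z = x) : X.OpenCover where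
  I₀ := ULift.{u} Bool
  X i := match i with
    | ⟨true⟩ => A
    | ⟨false⟩ => B
  f i := match i with
    | ⟨true⟩ => a
    | ⟨false⟩ => b
  mem₀ := by
    rw [Scheme.presieve₀_mem_precoverage_iff]
    refine ⟨fun x => ?_, fun i => ?_⟩
    · rcases h x with hx | hx
      · exact ⟨⟨true⟩, hx⟩
      · exact ⟨⟨false⟩, hx⟩
    · rcases i with ⟨_ | _⟩
      exacts [‹IsOpenImmersion b›, ‹IsOpenImmersion a›]

theorem isIso_stalkMap_of_comp {A X Y : Scheme.{u}} (j : A ⟶ X) [IsOpenImmersion j] (g : X ⟶ Y) (l : A ⟶ Y)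
    (e : j ≫ g = l) (a : A) (h : IsIso (l.stalkMap a)) : IsIso (g.stalkMap (j a)) := by
  subst e
  haveI : IsIso (g.stalkMap (j a) ≫ j.stalkMap a) := Scheme.Hom.stalkMap_comp j g a ▸ h
  exact IsIso.of_isIso_comp_right _ (j.stalkMap a)

section glue

variable {A B W : Scheme.{u}} (a : W ⟶ A) (b : W ⟶ B) [IsOpenImmersion a] [IsOpenImmersion b]

instance isOpenImmersion_inl : IsOpenImmersion (pushout.inl a b) :=
  inferInstanceAs (IsOpenImmersion (colimit.ι (span a b) WalkingSpan.left))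

instance isOpenImmersion_inr : IsOpenImmersion (pushout.inr a b) :=
  inferInstanceAs (IsOpenImmersion (colimit.ι (span a b) WalkingSpan.right))

theorem exists_inl_or_inr (y : (pushout a b : Scheme.{u})) :
    (∃ z, pushout.inl a b z = y) ∨ ∃ z, pushout.inr a b z = y := by
  obtain ⟨i, z, rfl⟩ := Scheme.IsLocallyDirected.ι_jointly_surjective (span a b) y
  rcases i with - | (- | -)
  · refine Or.inl ⟨a z, ?_⟩
    rw [← Scheme.Hom.comp_apply, ← colimit.w (span a b) WalkingSpan.Hom.fst]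
    rfl
  · exact Or.inl ⟨z, rfl⟩
  · exact Or.inr ⟨z, rfl⟩

theorem exists_of_inl_eq_inr {x : A} {y : B} (h : pushout.inl a b x = pushout.inr a b y) :
    ∃ z, a z = x ∧ b z = y := by
  obtain ⟨k, fi, fj, z, hi, hj⟩ := Scheme.IsLocallyDirected.ι_eq_ι_iff (span a b)
    (i := WalkingSpan.left) (j := WalkingSpan.right) |>.1 h
  change WidePushoutShape.Hom k (some WalkingPair.left) at fi
  change WidePushoutShape.Hom k (some WalkingPair.right) at fj
  cases fi with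
  | id => cases fj
  | init =>
    cases fj with
    | init => exact ⟨z, hi, hj⟩

variable {a b}

/-- A scheme glued from two separated pieces is separated when the overlap is closed in the product. -/
theorem isSeparated_desc (p₁ : A ⟶ S) (p₂ : B ⟶ S) [IsSeparated p₁] [IsSeparated p₂] (w : a ≫ p₁ = b ≫ p₂)
    (hc : IsClosed (Set.range (pullback.lift a b w))) :
    IsSeparated (pushout.desc p₁ p₂ w) := by
  set p := pushout.desc p₁ p₂ w with hp
  have e₁ : pushout.inl a b ≫ p = p₁ := pushout.inl_desc ..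
  have e₂ : pushout.inr a b ≫ p = p₂ := pushout.inr_desc ..
  have key : ∀ {C D V : Scheme.{u}} (c : C ⟶ pushout a b) (d : D ⟶ pushout a b) (q₁ : C ⟶ S) (q₂ : D ⟶ S)
      [IsOpenImmersion c] [IsOpenImmersion d] (_ : c ≫ p = q₁) (_ : d ≫ p = q₂) (u₁ : V ⟶ C) (u₂ : V ⟶ D)
      (hu : u₁ ≫ c = u₂ ≫ d) (hq : u₁ ≫ q₁ = u₂ ≫ q₂), IsClosed (Set.range (pullback.lift u₁ u₂ hq)) →
      (∀ x y, c x = d y → x ∈ Set.range u₁) →
      ∀ z, z ∈ closure (Set.range (pullback.diagonal p)) → pullback.fst p p z ∈ Set.range c →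
        pullback.snd p p z ∈ Set.range d → z ∈ Set.range (pullback.diagonal p) := by
    intro C D V c d q₁ q₂ _ _ hc hd u₁ u₂ hu hq hl hsur z hz hzc hzd
    subst hc hd
    let m := pullback.map (c ≫ p) (d ≫ p) p p c d (𝟙 S) (by simp) (by simp)
    have hm : z ∈ Set.range m := by
      rw [Scheme.Pullback.range_map]
      exact ⟨hzc, hzd⟩
    obtain ⟨t, rfl⟩ := hm
    have sq := pullback_map_diagonal_isPullback c d p
    let n := pullback.map c d (c ≫ p) (d ≫ p) (𝟙 C) (𝟙 D) p (by simp) (by simp)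
    have hn : Set.range n = m ⁻¹' Set.range (pullback.diagonal p) := by
      have h1 := IsPullback.flip sq
      have h2 : n = h1.isoPullback.hom ≫ pullback.fst _ _ := h1.isoPullback_hom_fst.symm
      rw [h2, Scheme.Hom.comp_base, TopCat.coe_comp, Set.range_comp,
        Set.range_eq_univ.2 (Scheme.Hom.surjective _), Set.image_univ, Scheme.Pullback.range_fst]
    have hcl : IsClosed (Set.range n) := by
      have h3 : pullback.lift u₁ u₂ hq = pullback.lift u₁ u₂ hu ≫ n := by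
        apply pullback.hom_ext <;> simp [n]
      have hsurj : Function.Surjective (fun v => pullback.lift u₁ u₂ hu v) := fun s => by
        obtain ⟨v, hv⟩ := hsur (pullback.fst c d s) (pullback.snd c d s) (by
          rw [← Scheme.Hom.comp_apply, pullback.condition, Scheme.Hom.comp_apply])
        refine ⟨v, (pullback.fst c d).isOpenEmbedding.injective ?_⟩
        rw [← Scheme.Hom.comp_apply, pullback.lift_fst]
        exact hv
      rwa [h3, Scheme.Hom.comp_base, TopCat.coe_comp, Set.range_comp,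
        Set.range_eq_univ.2 hsurj, Set.image_univ] at hl
    have : t ∈ closure (Set.range n) := by
      rw [hn, ← m.isOpenEmbedding.isOpenMap.preimage_closure_eq_closure_preimage m.continuous]
      exact hz
    rw [hcl.closure_eq, hn] at this
    exact this
  refine ⟨IsClosedImmersion.of_isPreimmersion _ (isClosed_of_closure_subset fun z hz => ?_)⟩
  have hw' : b ≫ p₂ = a ≫ p₁ := w.symm
  rcases exists_inl_or_inr a b (pullback.fst p p z) with hx | hx <;>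
    rcases exists_inl_or_inr a b (pullback.snd p p z) with hy | hy
  · refine key _ _ p₁ p₁ e₁ e₁ (𝟙 A) (𝟙 A) rfl rfl ?_ (fun x _ _ => ⟨x, rfl⟩) z hz hx hy
    exact (pullback.diagonal p₁).isClosedEmbedding.isClosed_range
  · exact key _ _ p₁ p₂ e₁ e₂ a b pushout.condition w hc
      (fun x y h => let ⟨z, hz, _⟩ := exists_of_inl_eq_inr a b h; ⟨z, hz⟩) z hz hx hy
  · refine key _ _ p₂ p₁ e₂ e₁ b a pushout.condition.symm hw' ?_
      (fun x y h => let ⟨z, _, hz⟩ := exists_of_inl_eq_inr a b h.symm; ⟨z, hz⟩) z hz hx hy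
    have h3 : pullback.lift b a hw' = pullback.lift a b w ≫ (pullbackSymmetry p₁ p₂).hom := by
      apply pullback.hom_ext <;> simp
    rw [h3, Scheme.Hom.comp_base, TopCat.coe_comp, Set.range_comp]
    exact (pullbackSymmetry p₁ p₂).hom.isClosedEmbedding.isClosedMap _ hc
  · refine key _ _ p₂ p₂ e₂ e₂ (𝟙 B) (𝟙 B) rfl rfl ?_ (fun x _ _ => ⟨x, rfl⟩) z hz hx hy
    exact (pullback.diagonal p₂).isClosedEmbedding.isClosed_range

end glue

/-- Gluing two finite type models over an open cover by two pieces. -/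
theorem exists_model_union [IsNoetherian X] [IsNoetherian S] (f : X ⟶ S) [IsSeparated f]
    (U₁ U₂ : X.Opens) (hU : U₁ ⊔ U₂ = ⊤) [IsNoetherian Y₁] [IsNoetherian Y₂]
    (k₁ : (U₁ : Scheme.{u}) ⟶ Y₁) (k₂ : (U₂ : Scheme.{u}) ⟶ Y₂) (p₁ : Y₁ ⟶ S) (p₂ : Y₂ ⟶ S)
    (hk₁ : LocImm.IsLocImmersion k₁) (hk₂ : LocImm.IsLocImmersion k₂)
    [IsSeparated p₁] [IsSeparated p₂] [LocallyOfFiniteType p₁] [LocallyOfFiniteType p₂]
    [QuasiCompact p₁] [QuasiCompact p₂] (h₁ : k₁ ≫ p₁ = U₁.ι ≫ f) (h₂ : k₂ ≫ p₂ = U₂.ι ≫ f) :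
    ∃ (Y : Scheme.{u}) (k : X ⟶ Y) (p : Y ⟶ S), IsNoetherian Y ∧ LocImm.IsLocImmersion k ∧ IsSeparated p ∧
      LocallyOfFiniteType p ∧ QuasiCompact p ∧ k ≫ p = f := by
  haveI := isNoetherian_opens U₁
  haveI := isNoetherian_opens U₂
  haveI := isNoetherian_opens (U₁ ⊓ U₂)
  let j₁ := X.homOfLE (inf_le_left : U₁ ⊓ U₂ ≤ U₁)
  let j₂ := X.homOfLE (inf_le_right : U₁ ⊓ U₂ ≤ U₂)
  have hj₁ : j₁ ≫ U₁.ι = (U₁ ⊓ U₂).ι := X.homOfLE_ι _
  have hj₂ : j₂ ≫ U₂.ι = (U₁ ⊓ U₂).ι := X.homOfLE_ι _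
  have hl₁ := isLocImmersion_comp j₁ k₁ (isLocImmersion_of_isOpenImmersion _) hk₁
  have hl₂ := isLocImmersion_comp j₂ k₂ (isLocImmersion_of_isOpenImmersion _) hk₂
  have hh : (j₁ ≫ k₁) ≫ p₁ = (j₂ ≫ k₂) ≫ p₂ := by
    rw [Category.assoc, Category.assoc, h₁, h₂, reassoc_of% hj₁, reassoc_of% hj₂]
  set H := pullback.lift (j₁ ≫ k₁) (j₂ ≫ k₂) hh with hH
  obtain ⟨W, k, hkW, -, hg₁, hg₂⟩ := exists_common_open (j₁ ≫ k₁) (j₂ ≫ k₂) p₁ p₂ hl₁ hl₂ hh
  haveI : IsNoetherian (pullback p₁ p₂) := isNoetherian_of_finiteType (pullback.fst p₁ p₂)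
  haveI : IsNoetherian H.image := isNoetherian_of_finiteType H.imageι
  let q₁ := H.imageι ≫ pullback.fst p₁ p₂
  let q₂ := H.imageι ≫ pullback.snd p₁ p₂
  -- the closure of the overlap meets the product of the two images only in the overlap
  have fact : ∀ z : H.image, q₁ z ∈ Set.range k₁ → q₂ z ∈ Set.range k₂ → ∃ u, H.toImage u = z := by
    intro z hz₁ hz₂
    haveI := isPreimmersion_of_isLocImmersion k₁ hk₁
    haveI := isPreimmersion_of_isLocImmersion k₂ hk₂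
    have e₁ : (U₁.ι ≫ f) ≫ 𝟙 S = k₁ ≫ p₁ := by rw [h₁, Category.comp_id]
    have e₂ : (U₂.ι ≫ f) ≫ 𝟙 S = k₂ ≫ p₂ := by rw [h₂, Category.comp_id]
    let M := pullback.map (U₁.ι ≫ f) (U₂.ι ≫ f) p₁ p₂ k₁ k₂ (𝟙 S) e₁ e₂
    have hM : H.imageι z ∈ Set.range M := by
      rw [Scheme.Pullback.range_map]
      exact ⟨hz₁, hz₂⟩
    obtain ⟨r, hr⟩ := hM
    let G := pullback.mapDesc U₁.ι U₂.ι f
    have hG : ∀ s, G s ∈ Set.range (pullback.lift j₁ j₂ (by rw [reassoc_of% hj₁, reassoc_of% hj₂]) :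
        (U₁ ⊓ U₂ : X.Opens).toScheme ⟶ pullback (U₁.ι ≫ f) (U₂.ι ≫ f)) := fun s => by
      have hs : (pullback.fst U₁.ι U₂.ι ≫ U₁.ι) s ∈ U₁ ⊓ U₂ := by
        refine ⟨(pullback.fst U₁.ι U₂.ι s).2, ?_⟩
        rw [pullback.condition]
        exact (pullback.snd U₁.ι U₂.ι s).2
      refine ⟨⟨_, hs⟩, ?_⟩
      have hjj : j₁ ≫ U₁.ι = j₂ ≫ U₂.ι := hj₁.trans hj₂.symm
      rw [show pullback.lift j₁ j₂ _ = pullback.lift j₁ j₂ hjj ≫ G by
        apply pullback.hom_ext <;> simp [G], Scheme.Hom.comp_apply]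
      congr 1
      refine (pullback.fst U₁.ι U₂.ι).isOpenEmbedding.injective ?_
      refine U₁.ι.isOpenEmbedding.injective ?_
      rw [← Scheme.Hom.comp_apply, ← Scheme.Hom.comp_apply, ← Scheme.Hom.comp_apply,
        pullback.lift_fst_assoc, hj₁]
      rfl
    have hEm : IsPreimmersion M := MorphismProperty.pullbackMap (P := @IsPreimmersion) ‹_› ‹_› h₁.symm h₂.symm
    have hr' : r ∈ Set.range G := by
      have h5 : H = pullback.lift j₁ j₂ (by rw [reassoc_of% hj₁, reassoc_of% hj₂]) ≫ M := by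
        apply pullback.hom_ext <;> simp [H, M]
      have h6 : H.imageι z ∈ closure (Set.range H) := by
        rw [← H.support_ker, ← Scheme.IdealSheafData.range_subschemeι]
        exact ⟨z, rfl⟩
      have h7 : r ∈ closure (M ⁻¹' Set.range H) := by
        rw [M.isEmbedding.isInducing.closure_eq_preimage_closure_image,
          Set.image_preimage_eq_of_subset (by rw [h5]; exact fun _ ⟨v, hv⟩ => ⟨_, hv⟩)]
        rw [Set.mem_preimage, hr]; exact h6
      refine closure_minimal ?_ G.isClosedEmbedding.isClosed_range h7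
      intro v ⟨u, hu⟩
      have h8 : pullback.lift j₁ j₂ (hj₁.trans hj₂.symm) ≫ G =
          pullback.lift j₁ j₂ (by rw [reassoc_of% hj₁, reassoc_of% hj₂]) := by
        apply pullback.hom_ext <;> simp [G]
      refine ⟨pullback.lift j₁ j₂ (hj₁.trans hj₂.symm) u, M.isEmbedding.injective ?_⟩
      rw [← hu, h5, ← h8]
      rfl
    obtain ⟨s, rfl⟩ := hr'
    obtain ⟨u, hu⟩ := hG s
    have : H.toImage u = z := H.imageι.isEmbedding.injective (by
      rw [← Scheme.Hom.comp_apply, H.toImage_imageι, ← hr, ← hu, ← Scheme.Hom.comp_apply]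
      exact congrArg (fun m : (U₁ ⊓ U₂ : X.Opens).toScheme ⟶ pullback p₁ p₂ => m u)
        (by apply pullback.hom_ext <;> simp [H, M]))
    exact ⟨u, this⟩
  let C : Set H.image := (W : Set H.image)ᶜ
  have hC : IsClosed C := W.isOpen.isClosed_compl
  haveI : QuasiSober C := hC.isClosedEmbedding_subtypeVal.quasiSober
  have hcont : ∀ {Y : Scheme.{u}} (q : H.image ⟶ Y), Continuous fun c : C => q c.1 :=
    fun q => q.continuous.comp continuous_subtype_val
  obtain ⟨O₁, hO₁, hkO₁, hT₁⟩ := exists_open_avoid (hcont q₁) (T := {c : C | q₂ c.1 ∈ Set.range k₂})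
    (fun a c hca ha => stableUnderGeneralization_range k₂ hk₂ (hca.map (hcont q₂)) ha)
    (stableUnderGeneralization_range k₁ hk₁) (fun c hc h => c.2 (by
      obtain ⟨u, hu⟩ := fact c.1 h hc
      rw [← hu, ← hkW, Scheme.Hom.comp_apply]
      exact (k u).2))
  obtain ⟨O₂, hO₂, hkO₂, hT₂⟩ := exists_open_avoid (hcont q₂) (T := {c : C | q₁ c.1 ∈ O₁})
    (fun a c hca ha => (hca.map (hcont q₁)).mem_open hO₁ ha)
    (stableUnderGeneralization_range k₂ hk₂) (fun c hc h => hT₁ c h hc)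
  let O₁' : Y₁.Opens := ⟨O₁, hO₁⟩
  let O₂' : Y₂.Opens := ⟨O₂, hO₂⟩
  haveI := isNoetherian_opens O₁'
  haveI := isNoetherian_opens O₂'
  let W' : H.image.Opens := W ⊓ q₁ ⁻¹ᵁ O₁' ⊓ q₂ ⁻¹ᵁ O₂'
  haveI : IsOpenImmersion (W'.ι ≫ q₁) := by
    rw [← H.image.homOfLE_ι (inf_le_left.trans inf_le_left : W' ≤ W), Category.assoc]
    haveI : IsOpenImmersion (W.ι ≫ q₁) := hg₁
    infer_instance
  haveI : IsOpenImmersion (W'.ι ≫ q₂) := by
    rw [← H.image.homOfLE_ι (inf_le_left.trans inf_le_left : W' ≤ W), Category.assoc]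
    haveI : IsOpenImmersion (W.ι ≫ q₂) := hg₂
    infer_instance
  let a : W'.toScheme ⟶ O₁'.toScheme := IsOpenImmersion.lift O₁'.ι (W'.ι ≫ q₁) (by
    rw [Scheme.Opens.range_ι]; rintro _ ⟨w, rfl⟩; exact w.2.1.2)
  let b : W'.toScheme ⟶ O₂'.toScheme := IsOpenImmersion.lift O₂'.ι (W'.ι ≫ q₂) (by
    rw [Scheme.Opens.range_ι]; rintro _ ⟨w, rfl⟩; exact w.2.2)
  have ha : a ≫ O₁'.ι = W'.ι ≫ q₁ := IsOpenImmersion.lift_fac _ _ _
  have hb : b ≫ O₂'.ι = W'.ι ≫ q₂ := IsOpenImmersion.lift_fac _ _ _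
  haveI : IsOpenImmersion a := IsOpenImmersion.of_comp a O₁'.ι |> fun h => h
  haveI : IsOpenImmersion b := IsOpenImmersion.of_comp b O₂'.ι |> fun h => h
  have hw : a ≫ O₁'.ι ≫ p₁ = b ≫ O₂'.ι ≫ p₂ := by
    rw [reassoc_of% ha, reassoc_of% hb]
    simp [q₁, q₂, pullback.condition]
  have hcl : IsClosed (Set.range (pullback.lift a b hw)) := by
    let m := pullback.map (O₁'.ι ≫ p₁) (O₂'.ι ≫ p₂) p₁ p₂ O₁'.ι O₂'.ι (𝟙 S) (by simp) (by simp)
    have hm : pullback.lift a b hw ≫ m = W'.ι ≫ H.imageι := by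
      apply pullback.hom_ext <;> simp [m, ha, hb, q₁, q₂]
    have : Set.range (pullback.lift a b hw) = m ⁻¹' Set.range H.imageι := by
      ext t
      constructor
      · rintro ⟨w, rfl⟩
        exact ⟨W'.ι w, by rw [← Scheme.Hom.comp_apply, ← hm, Scheme.Hom.comp_apply]⟩
      · rintro ⟨z, hz⟩
        have h1 : q₁ z ∈ O₁ := by
          show (H.imageι ≫ pullback.fst p₁ p₂) z ∈ O₁
          rw [Scheme.Hom.comp_apply, hz, ← Scheme.Hom.comp_apply, pullback.lift_fst, Scheme.Hom.comp_apply]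
          exact (pullback.fst (O₁'.ι ≫ p₁) (O₂'.ι ≫ p₂) t).2
        have h2 : q₂ z ∈ O₂ := by
          show (H.imageι ≫ pullback.snd p₁ p₂) z ∈ O₂
          rw [Scheme.Hom.comp_apply, hz, ← Scheme.Hom.comp_apply, pullback.lift_snd, Scheme.Hom.comp_apply]
          exact (pullback.snd (O₁'.ι ≫ p₁) (O₂'.ι ≫ p₂) t).2
        have hW : z ∈ W := by
          by_contra hzW
          exact hT₂ ⟨z, hzW⟩ h1 h2
        refine ⟨⟨z, ⟨hW, h1⟩, h2⟩, m.isOpenEmbedding.injective ?_⟩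
        rw [← Scheme.Hom.comp_apply, hm, ← hz]
        rfl
    rw [this]
    exact H.imageι.isClosedEmbedding.isClosed_range.preimage m.continuous
  haveI hsep := isSeparated_desc (O₁'.ι ≫ p₁) (O₂'.ι ≫ p₂) hw hcl
  set p := pushout.desc (O₁'.ι ≫ p₁) (O₂'.ι ≫ p₂) hw with hp
  let Y : Scheme.{u} := pushout a b
  have ei₁ : pushout.inl a b ≫ p = O₁'.ι ≫ p₁ := pushout.inl_desc ..
  have ei₂ : pushout.inr a b ≫ p = O₂'.ι ≫ p₂ := pushout.inr_desc ..
  have hcov : (pushout.inl a b).opensRange ⊔ (pushout.inr a b).opensRange = ⊤ := by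
    refine eq_top_iff.2 fun y _ => ?_
    exact (exists_inl_or_inr a b y).imp (fun h => h) (fun h => h)
  let 𝒰 : Y.OpenCover := cover2 (pushout.inl a b) (pushout.inr a b) (exists_inl_or_inr a b)
  haveI hlft : LocallyOfFiniteType p := by
    refine IsZariskiLocalAtSource.of_openCover 𝒰 fun i => ?_
    rcases i with ⟨_ | _⟩
    · show LocallyOfFiniteType (pushout.inr a b ≫ p); rw [ei₂]; infer_instance
    · show LocallyOfFiniteType (pushout.inl a b ≫ p); rw [ei₁]; infer_instance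
  haveI : CompactSpace Y := by
    refine ⟨?_⟩
    have : (Set.univ : Set Y) = Set.range (pushout.inl a b) ∪ Set.range (pushout.inr a b) :=
      (Set.eq_univ_of_forall (exists_inl_or_inr a b)).symm
    rw [this]
    exact (isCompact_range (pushout.inl a b).continuous).union (isCompact_range (pushout.inr a b).continuous)
  haveI : QuasiCompact p := by infer_instance
  haveI : IsNoetherian Y := isNoetherian_of_finiteType p
  -- the map to the glued model
  let k₁' : U₁.toScheme ⟶ O₁'.toScheme :=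
    IsOpenImmersion.lift O₁'.ι k₁ (by rw [Scheme.Opens.range_ι]; exact hkO₁)
  let k₂' : U₂.toScheme ⟶ O₂'.toScheme :=
    IsOpenImmersion.lift O₂'.ι k₂ (by rw [Scheme.Opens.range_ι]; exact hkO₂)
  have hk₁' : k₁' ≫ O₁'.ι = k₁ := IsOpenImmersion.lift_fac _ _ _
  have hk₂' : k₂' ≫ O₂'.ι = k₂ := IsOpenImmersion.lift_fac _ _ _
  let kW : (U₁ ⊓ U₂ : X.Opens).toScheme ⟶ W'.toScheme := IsOpenImmersion.lift W'.ι H.toImage (by
    rw [Scheme.Opens.range_ι]
    rintro _ ⟨u, rfl⟩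
    refine ⟨⟨?_, ?_⟩, ?_⟩
    · rw [← hkW, Scheme.Hom.comp_apply]; exact (k u).2
    · show (H.toImage ≫ q₁) u ∈ O₁
      simp only [q₁, Scheme.Hom.toImage_imageι_assoc, H, pullback.lift_fst]
      exact hkO₁ ⟨j₁ u, rfl⟩
    · show (H.toImage ≫ q₂) u ∈ O₂
      simp only [q₂, Scheme.Hom.toImage_imageι_assoc, H, pullback.lift_snd]
      exact hkO₂ ⟨j₂ u, rfl⟩)
  have hkW' : kW ≫ W'.ι = H.toImage := IsOpenImmersion.lift_fac _ _ _
  have ea : kW ≫ a = j₁ ≫ k₁' := by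
    rw [← cancel_mono O₁'.ι]
    simp only [Category.assoc, ha, hk₁', reassoc_of% hkW', q₁, Scheme.Hom.toImage_imageι_assoc, H, pullback.lift_fst]
  have eb : kW ≫ b = j₂ ≫ k₂' := by
    rw [← cancel_mono O₂'.ι]
    simp only [Category.assoc, hb, hk₂', reassoc_of% hkW', q₂, Scheme.Hom.toImage_imageι_assoc, H, pullback.lift_snd]
  let l₁ := k₁' ≫ pushout.inl a b
  let l₂ := k₂' ≫ pushout.inr a b
  have hagree : pullback.fst U₁.ι U₂.ι ≫ l₁ = pullback.snd U₁.ι U₂.ι ≫ l₂ := by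
    have hsub : Set.range (pullback.fst U₁.ι U₂.ι ≫ U₁.ι) ⊆ Set.range (U₁ ⊓ U₂ : X.Opens).ι := by
      rw [Scheme.Opens.range_ι]
      rintro _ ⟨s, rfl⟩
      refine ⟨(pullback.fst U₁.ι U₂.ι s).2, ?_⟩
      rw [pullback.condition]
      exact (pullback.snd U₁.ι U₂.ι s).2
    let t := IsOpenImmersion.lift (U₁ ⊓ U₂ : X.Opens).ι (pullback.fst U₁.ι U₂.ι ≫ U₁.ι) hsub
    have ht : t ≫ (U₁ ⊓ U₂).ι = pullback.fst U₁.ι U₂.ι ≫ U₁.ι := IsOpenImmersion.lift_fac _ _ _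
    have t₁ : t ≫ j₁ = pullback.fst U₁.ι U₂.ι := by rw [← cancel_mono U₁.ι, Category.assoc, hj₁, ht]
    have t₂ : t ≫ j₂ = pullback.snd U₁.ι U₂.ι := by
      rw [← cancel_mono U₂.ι, Category.assoc, hj₂, ht, pullback.condition]
    rw [← t₁, ← t₂]
    simp only [l₁, l₂, Category.assoc, ← reassoc_of% ea, ← reassoc_of% eb, pushout.condition]
  have hmemU : ∀ x : X, (∃ z, U₁.ι z = x) ∨ ∃ z, U₂.ι z = x := fun x => by
    rcases (hU.symm ▸ Set.mem_univ x : x ∈ (U₁ ⊔ U₂ : X.Opens)) with hx | hx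
    · exact Or.inl ⟨⟨x, hx⟩, rfl⟩
    · exact Or.inr ⟨⟨x, hx⟩, rfl⟩
  let 𝒱 : X.OpenCover := cover2 U₁.ι U₂.ι hmemU
  let K : X ⟶ Y := 𝒱.glueMorphisms
    (fun i => match i with | ⟨true⟩ => l₁ | ⟨false⟩ => l₂) (by
      rintro ⟨_ | _⟩ ⟨_ | _⟩
      · show pullback.fst U₂.ι U₂.ι ≫ l₂ = pullback.snd U₂.ι U₂.ι ≫ l₂
        rw [fst_eq_snd_of_mono_eq]
      · show pullback.fst U₂.ι U₁.ι ≫ l₂ = pullback.snd U₂.ι U₁.ι ≫ l₁
        rw [← cancel_epi (pullbackSymmetry U₁.ι U₂.ι).hom, pullbackSymmetry_hom_comp_fst_assoc,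
          pullbackSymmetry_hom_comp_snd_assoc, hagree]
      · exact hagree
      · show pullback.fst U₁.ι U₁.ι ≫ l₁ = pullback.snd U₁.ι U₁.ι ≫ l₁
        rw [fst_eq_snd_of_mono_eq])
  have hK₁ : U₁.ι ≫ K = l₁ := 𝒱.ι_glueMorphisms _ _ ⟨true⟩
  have hK₂ : U₂.ι ≫ K = l₂ := 𝒱.ι_glueMorphisms _ _ ⟨false⟩
  have hKp : K ≫ p = f := by
    refine 𝒱.hom_ext _ _ fun i => ?_
    rcases i with ⟨_ | _⟩
    · show U₂.ι ≫ K ≫ p = U₂.ι ≫ f
      rw [reassoc_of% hK₂]; simp only [l₂, Category.assoc, ei₂, reassoc_of% hk₂', h₂]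
    · show U₁.ι ≫ K ≫ p = U₁.ι ≫ f
      rw [reassoc_of% hK₁]; simp only [l₁, Category.assoc, ei₁, reassoc_of% hk₁', h₁]
  have hloc₁ : LocImm.IsLocImmersion l₁ := isLocImmersion_comp _ _
    (isLocImmersion_of_comp_isOpenImmersion k₁' O₁'.ι (by rwa [hk₁'])) (isLocImmersion_of_isOpenImmersion _)
  have hloc₂ : LocImm.IsLocImmersion l₂ := isLocImmersion_comp _ _
    (isLocImmersion_of_comp_isOpenImmersion k₂' O₂'.ι (by rwa [hk₂'])) (isLocImmersion_of_isOpenImmersion _)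
  haveI : EssFT.LocallyEssFiniteType K := by
    refine IsZariskiLocalAtSource.of_openCover 𝒱 fun i => ?_
    rcases i with ⟨_ | _⟩
    · show EssFT.LocallyEssFiniteType (U₂.ι ≫ K); rw [hK₂]; exact essFT_of_isLocalizing _ hloc₂.1
    · show EssFT.LocallyEssFiniteType (U₁.ι ≫ K); rw [hK₁]; exact essFT_of_isLocalizing _ hloc₁.1
  refine ⟨Y, K, p, inferInstance, isLocImmersion_of_stalk K ?_ ?_, hsep, hlft, inferInstance, hKp⟩
  · have mixed : ∀ (x : U₁.toScheme) (y : U₂.toScheme), K (U₁.ι x) = K (U₂.ι y) → U₁.ι x = U₂.ι y := by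
      intro x y hxy
      rw [← Scheme.Hom.comp_apply, ← Scheme.Hom.comp_apply, hK₁, hK₂] at hxy
      simp only [l₁, l₂, Scheme.Hom.comp_apply] at hxy
      obtain ⟨w, hw₁, hw₂⟩ := exists_of_inl_eq_inr a b hxy
      have e₁ : q₁ (W'.ι w) = k₁ x := by
        rw [← Scheme.Hom.comp_apply, ← ha, Scheme.Hom.comp_apply, hw₁, ← Scheme.Hom.comp_apply, hk₁']
      have e₂ : q₂ (W'.ι w) = k₂ y := by
        rw [← Scheme.Hom.comp_apply, ← hb, Scheme.Hom.comp_apply, hw₂, ← Scheme.Hom.comp_apply, hk₂']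
      obtain ⟨u, hu⟩ := fact (W'.ι w) ⟨x, e₁.symm⟩ ⟨y, e₂.symm⟩
      have hx : x = j₁ u := hk₁.2 (by
        show k₁ x = k₁ (j₁ u)
        rw [← e₁, ← hu, ← Scheme.Hom.comp_apply, ← Scheme.Hom.comp_apply]
        simp only [q₁, Scheme.Hom.toImage_imageι_assoc, H, pullback.lift_fst])
      have hy : y = j₂ u := hk₂.2 (by
        show k₂ y = k₂ (j₂ u)
        rw [← e₂, ← hu, ← Scheme.Hom.comp_apply, ← Scheme.Hom.comp_apply]
        simp only [q₂, Scheme.Hom.toImage_imageι_assoc, H, pullback.lift_snd])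
      rw [hx, hy, ← Scheme.Hom.comp_apply, hj₁, ← Scheme.Hom.comp_apply, hj₂]
    intro x y hxy
    rcases (hU.symm ▸ Set.mem_univ x : x ∈ (U₁ ⊔ U₂ : X.Opens)) with hx | hx <;>
      rcases (hU.symm ▸ Set.mem_univ y : y ∈ (U₁ ⊔ U₂ : X.Opens)) with hy | hy
    · exact congrArg Subtype.val (hloc₁.2 (show l₁ ⟨x, hx⟩ = l₁ ⟨y, hy⟩ by rw [← hK₁]; exact hxy))
    · exact mixed ⟨x, hx⟩ ⟨y, hy⟩ hxy
    · exact (mixed ⟨y, hy⟩ ⟨x, hx⟩ hxy.symm).symm
    · exact congrArg Subtype.val (hloc₂.2 (show l₂ ⟨x, hx⟩ = l₂ ⟨y, hy⟩ by rw [← hK₂]; exact hxy))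
  · intro x
    rcases hmemU x with ⟨z, rfl⟩ | ⟨z, rfl⟩
    · exact isIso_stalkMap_of_comp U₁.ι K l₁ hK₁ z (isIso_stalkMap l₁ hloc₁ z)
    · exact isIso_stalkMap_of_comp U₂.ι K l₂ hK₂ z (isIso_stalkMap l₂ hloc₂ z)

end Groth.Agent.LocImmX
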