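import Groth.Agent.LocImmX.Spread
import Mathlib.AlgebraicGeometry.Morphisms.FiniteType
import Mathlib.AlgebraicGeometry.PullbackCarrier
import Mathlib.AlgebraicGeometry.IdealSheaf.Subscheme

/-!
# Calculus of morphisms essentially of finite type and of localizing immersions
-/

set_option autoImplicit false

universe u

open CategoryTheory CategoryTheory.Limits AlgebraicGeometry TopologicalSpace

namespace Groth.Agent.LocImmX

variable {X Y Z : Scheme.{u}}

theorem locally_essFiniteType_stableUnderComposition :
    RingHom.StableUnderComposition (RingHom.Locally RingHom.EssFiniteType) :=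
  RingHom.locally_stableUnderComposition RingHom.EssFiniteType.respectsIso
    RingHom.EssFiniteType.isStableUnderBaseChange.localizationPreserves
    RingHom.EssFiniteType.stableUnderComposition

instance essFT_isStableUnderComposition :
    MorphismProperty.IsStableUnderComposition @EssFT.LocallyEssFiniteType :=
  HasRingHomProperty.stableUnderComposition (P := @EssFT.LocallyEssFiniteType)
    locally_essFiniteType_stableUnderComposition

theorem essFT_comp (f : X ⟶ Y) (g : Y ⟶ Z) [EssFT.LocallyEssFiniteType f] [EssFT.LocallyEssFiniteType g] :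
    EssFT.LocallyEssFiniteType (f ≫ g) :=
  MorphismProperty.comp_mem @EssFT.LocallyEssFiniteType f g inferInstance inferInstance

theorem essFT_of_comp (f : X ⟶ Y) (g : Y ⟶ Z) [EssFT.LocallyEssFiniteType (f ≫ g)] :
    EssFT.LocallyEssFiniteType f := by
  refine HasRingHomProperty.of_comp (P := @EssFT.LocallyEssFiniteType) ?_ (f := f) (g := g) inferInstance
  introv h
  obtain ⟨s, hs, hs'⟩ := h
  exact ⟨s, hs, fun t ht => RingHom.EssFiniteType.of_comp f (hs' t ht)⟩

instance (priority := 100) essFT_of_locallyOfFiniteType (f : X ⟶ Y) [LocallyOfFiniteType f] :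
    EssFT.LocallyEssFiniteType f where
  exists_appLE_essFiniteType x := by
    obtain ⟨U, hU, hxU, -⟩ := exists_isAffineOpen_mem_and_subset (x := f x) (U := ⊤) trivial
    obtain ⟨_, ⟨V, hV, rfl⟩, hxV, hVU⟩ := X.isBasis_affineOpens.exists_subset_of_mem_open
      (show x ∈ (f ⁻¹ᵁ U : X.Opens) from hxU) (f ⁻¹ᵁ U).isOpen
    exact ⟨⟨U, hU⟩, ⟨V, hV⟩, hxV, hVU, (f.finiteType_appLE hU hV hVU).essFiniteType⟩

theorem essFT_of_isLocalizing (f : X ⟶ Y) (hf : LocImm.IsLocalizing f) : EssFT.LocallyEssFiniteType f where
  exists_appLE_essFiniteType x := by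
    obtain ⟨U, V, hx, e, h⟩ := hf x
    refine ⟨U, V, hx, e, ?_⟩
    letI : Algebra Γ(Y, U.1) Γ(X, V.1) := (f.appLE U.1 V.1 e).hom.toAlgebra
    obtain ⟨M, hM⟩ := h
    exact Algebra.EssFiniteType.of_isLocalization _ M

/-- An injective morphism essentially of finite type inducing isomorphisms of local rings is a
localizing immersion. -/
theorem isLocImmersion_of_stalk [IsLocallyNoetherian Y] (f : X ⟶ Y) [EssFT.LocallyEssFiniteType f]
    (hinj : Function.Injective fun x => f x) (h : ∀ x : X, IsIso (f.stalkMap x)) : LocImm.IsLocImmersion f :=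
  ⟨fun x => haveI := h x; exists_affine_localizing f x, hinj⟩

theorem isIso_stalkMap [IsNoetherian X] [IsNoetherian Y] (f : X ⟶ Y) (hf : LocImm.IsLocImmersion f) (x : X) :
    IsIso (f.stalkMap x) :=
  (S18203.result f hf).2.2 x

theorem stableUnderGeneralization_range [IsNoetherian X] [IsNoetherian Y] (f : X ⟶ Y)
    (hf : LocImm.IsLocImmersion f) : StableUnderGeneralization (Set.range fun x => f x) :=
  (S18203.result f hf).2.1

theorem isLocImmersion_comp [IsNoetherian X] [IsNoetherian Y] [IsNoetherian Z] (f : X ⟶ Y) (g : Y ⟶ Z)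
    (hf : LocImm.IsLocImmersion f) (hg : LocImm.IsLocImmersion g) : LocImm.IsLocImmersion (f ≫ g) := by
  haveI := essFT_of_isLocalizing f hf.1
  haveI := essFT_of_isLocalizing g hg.1
  haveI := essFT_comp f g
  refine isLocImmersion_of_stalk _ (hg.2.comp hf.2) fun x => ?_
  haveI := isIso_stalkMap f hf x
  haveI := isIso_stalkMap g hg (f x)
  rw [Scheme.Hom.stalkMap_comp]
  exact IsIso.comp_isIso' (isIso_stalkMap g hg (f x)) (isIso_stalkMap f hf x)

theorem isLocImmersion_of_isOpenImmersion [IsLocallyNoetherian Y] (f : X ⟶ Y) [IsOpenImmersion f] :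
    LocImm.IsLocImmersion f :=
  isLocImmersion_of_stalk f f.isOpenEmbedding.injective fun _ => inferInstance

/-- Cancellation of an open immersion. -/
theorem isLocImmersion_of_comp_isOpenImmersion [IsNoetherian X] [IsNoetherian Z] [IsLocallyNoetherian Y]
    (f : X ⟶ Y) (g : Y ⟶ Z) [IsOpenImmersion g] (hfg : LocImm.IsLocImmersion (f ≫ g)) :
    LocImm.IsLocImmersion f := by
  haveI := essFT_of_isLocalizing _ hfg.1
  haveI := essFT_of_comp f g
  refine isLocImmersion_of_stalk f (fun a b h => hfg.2 (congrArg (fun y => g y) h)) fun x => ?_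
  haveI : IsIso (g.stalkMap (f x) ≫ f.stalkMap x) :=
    Scheme.Hom.stalkMap_comp f g x ▸ isIso_stalkMap _ hfg x
  exact IsIso.of_isIso_comp_left (g.stalkMap (f x)) _

/-- The map to the schematic image is a localizing immersion as soon as a composite is one. -/
theorem isLocImmersion_toImage {P : Scheme.{u}} [IsNoetherian X] [IsNoetherian Y] [IsLocallyNoetherian P]
    (h : X ⟶ P) [QuasiCompact h] (q : P ⟶ Y) (hq : LocImm.IsLocImmersion (h ≫ q)) :
    LocImm.IsLocImmersion h.toImage := by
  haveI : IsLocallyNoetherian h.image := LocallyOfFiniteType.isLocallyNoetherian h.imageι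
  haveI := essFT_of_isLocalizing _ hq.1
  haveI : EssFT.LocallyEssFiniteType (h.toImage ≫ h.imageι ≫ q) := by rwa [h.toImage_imageι_assoc]
  haveI := essFT_of_comp h.toImage (h.imageι ≫ q)
  have hcomp : LocImm.IsLocImmersion (h.toImage ≫ h.imageι ≫ q) := by rwa [h.toImage_imageι_assoc]
  have hind : Topology.IsInducing h.toImage.base :=
    Topology.IsInducing.of_comp h.toImage.continuous (h.imageι ≫ q).continuous
      (S18203.result _ hcomp).1.isInducing
  refine isLocImmersion_of_stalk h.toImage (fun a b hab => hcomp.2 (congrArg (fun z => (h.imageι ≫ q) z) hab))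
    fun x => ?_
  haveI : IsIso ((h.imageι ≫ q).stalkMap (h.toImage x) ≫ h.toImage.stalkMap x) :=
    Scheme.Hom.stalkMap_comp h.toImage (h.imageι ≫ q) x ▸ isIso_stalkMap _ hcomp x
  refine (ConcreteCategory.isIso_iff_bijective _).2 ⟨?_, ?_⟩
  · haveI := TopCat.Presheaf.stalkPushforward.stalkPushforward_iso_of_isInducing CommRingCat hind X.presheaf x
    intro a b hab
    refine h.stalkFunctor_toImage_injective (h.toImage x) ?_
    exact (ConcreteCategory.bijective_of_isIso (X.presheaf.stalkPushforward CommRingCat h.toImage.base x)).1 hab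
  · exact Function.Surjective.of_comp (g := ((h.imageι ≫ q).stalkMap (h.toImage x)))
      (ConcreteCategory.bijective_of_isIso ((h.imageι ≫ q).stalkMap (h.toImage x) ≫ h.toImage.stalkMap x)).2

end Groth.Agent.LocImmX
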