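import Groth.Agent.LocImmX.Locus
import Groth.Agent.S0386
import Groth.Agent.S0385
import Mathlib.AlgebraicGeometry.Noetherian

/-!
# Flat and quasi-finite morphisms essentially of finite type
-/

set_option autoImplicit false
set_option backward.isDefEq.respectTransparency false
set_option backward.isDefEq.respectTransparency.types false

universe u

open CategoryTheory CategoryTheory.Limits AlgebraicGeometry TopologicalSpace

namespace Groth.Agent.LocImmX

variable {X Y : Scheme.{u}}

theorem flat_fromSpecStalk_comp_iff [IsNoetherian X] [IsNoetherian Y] (f : X ⟶ Y) (x : X) :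
    Flat (X.fromSpecStalk x ≫ f) ↔ (f.stalkMap x).hom.Flat := by
  rw [← Scheme.SpecMap_stalkMap_fromSpecStalk, ← Flat.SpecMap_iff]
  haveI := flat_of_isLocImmersion _ (isLocImmersion_fromSpecStalk (f x))
  refine ⟨fun h => ?_, fun h => inferInstance⟩
  have sq : IsPullback (Spec.map (f.stalkMap x)) (𝟙 _) (Y.fromSpecStalk (f x))
      (Spec.map (f.stalkMap x) ≫ Y.fromSpecStalk (f x)) :=
    ⟨⟨by simp⟩, ⟨PullbackCone.isLimitAux _ (fun s => s.snd)
      (fun s => by rw [← cancel_mono (Y.fromSpecStalk (f x)), Category.assoc]; exact s.condition.symm)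
      (fun s => Category.comp_id _) (fun s m hm => (Category.comp_id m).symm.trans (hm WalkingCospan.right))⟩⟩
  exact MorphismProperty.of_isPullback sq.flip h

theorem flat_locus [IsNoetherian X] [IsNoetherian Y] (f : X ⟶ Y) [IsSeparated f] [EssFT.EssFiniteType f] :
    IsOpen {x : X | Flat (X.fromSpecStalk x ≫ f)} ∧
      (Flat f → ∃ (Z : Scheme.{u}) (i : X ⟶ Z) (h : Z ⟶ Y), IsNoetherian Z ∧ LocImm.IsLocImmersion i ∧
        IsSeparated h ∧ LocallyOfFiniteType h ∧ QuasiCompact h ∧ Flat h ∧ i ≫ h = f) := by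
  obtain ⟨-, h2, h3⟩ := localizable_locus (P := @Flat)
    (fun {A B C} _ _ _ i g _ _ hi _ => by haveI := flat_of_isLocImmersion i hi; infer_instance)
    (fun {A B} _ _ g _ _ h => Flat.of_stalkMap g fun x => (flat_fromSpecStalk_comp_iff g x).1 (h x))
    (fun {A B} _ _ g _ _ => by
      haveI : LocallyOfFinitePresentation g := by infer_instance
      have h := S0386.result g
      simp only [← flat_fromSpecStalk_comp_iff g] at h
      exact h) f
  exact ⟨h2, h3⟩

theorem exists_locImmersion_comp_finite [IsNoetherian X] [IsNoetherian Y] (f : X ⟶ Y) [IsSeparated f]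
    [EssFT.EssFiniteType f] [LocallyQuasiFinite f] :
    ∃ (Z : Scheme.{u}) (i : X ⟶ Z) (h : Z ⟶ Y), IsNoetherian Z ∧ LocImm.IsLocImmersion i ∧ IsFinite h ∧ i ≫ h = f := by
  obtain ⟨-, -, h3⟩ := localizable_locus (P := @LocallyQuasiFinite)
    (fun {A B C} _ _ _ i g _ _ hi _ => by haveI := isPreimmersion_of_isLocImmersion i hi; infer_instance)
    (fun {A B} _ _ g _ _ h => (Scheme.Hom.quasiFiniteLocus_eq_top_iff g).1 (eq_top_iff.2 fun x _ =>
      Scheme.Hom.quasiFiniteAt_iff.2 (h x)))
    (fun {A B} _ _ g _ _ => by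
      simp only [← Scheme.Hom.quasiFiniteAt_iff]
      exact g.isOpen_quasiFiniteAt) f
  obtain ⟨Z, i, h, _, hi, _, _, _, _, rfl⟩ := h3 inferInstance
  obtain ⟨T, j, π, _, _, _, rfl⟩ := S0385.result h
  haveI : IsNoetherian T := isNoetherian_of_finiteType π
  exact ⟨T, i ≫ j, π, inferInstance, isLocImmersion_comp _ _ hi (isLocImmersion_of_isOpenImmersion _),
    inferInstance, Category.assoc _ _ _⟩

end Groth.Agent.LocImmX
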