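import Groth.Agent.LocImmX.Model
import Groth.Agent.S18205

/-!
# Properties of morphisms essentially of finite type checked on local schemes
-/

set_option autoImplicit false
set_option backward.isDefEq.respectTransparency false
set_option backward.isDefEq.respectTransparency.types false

universe u

open CategoryTheory CategoryTheory.Limits AlgebraicGeometry TopologicalSpace

namespace Groth.Agent.LocImmX

variable {X Y : Scheme.{u}}

theorem isNoetherian_spec_stalk [IsNoetherian X] (x : X) : IsNoetherian (Spec (X.presheaf.stalk x)) :=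
  inferInstance

theorem isLocImmersion_fromSpecStalk [IsNoetherian X] (x : X) : LocImm.IsLocImmersion (X.fromSpecStalk x) := by
  obtain ⟨U, hU, hxU, -⟩ := exists_isAffineOpen_mem_and_subset (x := x) (U := ⊤) trivial
  rw [← hU.fromSpecStalk_eq_fromSpecStalk hxU]
  haveI : IsNoetherianRing Γ(X, U) := IsLocallyNoetherian.component_noetherian ⟨U, hU⟩
  haveI : IsNoetherian (Spec Γ(X, U)) := inferInstance
  haveI := isNoetherian_spec_stalk x
  refine isLocImmersion_comp _ _ (isLocImmersion_specMap _ ?_) (isLocImmersion_of_isOpenImmersion _)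
  exact ⟨_, hU.isLocalization_stalk ⟨x, hxU⟩⟩

theorem essFiniteType_fromSpecStalk_comp [IsNoetherian X] [IsNoetherian Y] (g : X ⟶ Y)
    [EssFT.LocallyEssFiniteType g] (x : X) : EssFT.EssFiniteType (X.fromSpecStalk x ≫ g) where
  toLocallyEssFiniteType := by
    haveI := essFT_of_isLocalizing _ (isLocImmersion_fromSpecStalk x).1
    exact essFT_comp _ g
  toQuasiCompact := by
    haveI := isNoetherian_spec_stalk x
    infer_instance

section

variable {P : MorphismProperty Scheme.{u}}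
  (hα : ∀ {W X Y : Scheme.{u}} [IsNoetherian W] [IsNoetherian X] [IsNoetherian Y] (i : W ⟶ X) (f : X ⟶ Y)
    [IsSeparated f] [EssFT.EssFiniteType f], LocImm.IsLocImmersion i → P f → P (i ≫ f))

include hα in
theorem stalk_iff {A B : Scheme.{u}} [IsNoetherian A] [IsNoetherian B] [IsNoetherian Y] (j : A ⟶ B) (g : B ⟶ Y)
    (hj : LocImm.IsLocImmersion j) [IsSeparated g] [EssFT.LocallyEssFiniteType g] (a : A) :
    P (A.fromSpecStalk a ≫ j ≫ g) ↔ P (B.fromSpecStalk (j a) ≫ g) := by
  haveI := isPreimmersion_of_isLocImmersion j hj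
  haveI := isIso_stalkMap j hj a
  haveI := isNoetherian_spec_stalk a
  haveI := isNoetherian_spec_stalk (j a)
  have e : A.fromSpecStalk a ≫ j ≫ g = Spec.map (j.stalkMap a) ≫ B.fromSpecStalk (j a) ≫ g := by
    rw [Scheme.SpecMap_stalkMap_fromSpecStalk_assoc]
  haveI := essFiniteType_fromSpecStalk_comp g (j a)
  have hi : LocImm.IsLocImmersion (Spec.map (j.stalkMap a)) := isLocImmersion_of_isOpenImmersion _
  refine ⟨fun h => ?_, fun h => e ▸ hα _ _ hi h⟩
  rw [e] at h
  haveI := essFT_of_isLocalizing _ hj.1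
  haveI := essFT_comp j g
  haveI : EssFT.EssFiniteType (Spec.map (j.stalkMap a) ≫ B.fromSpecStalk (j a) ≫ g) :=
    e ▸ essFiniteType_fromSpecStalk_comp (j ≫ g) a
  have := hα (inv (Spec.map (j.stalkMap a))) _ (isLocImmersion_of_isOpenImmersion _) h
  rwa [IsIso.inv_hom_id_assoc] at this

include hα in
theorem localizable_locus
    (hβ₁ : ∀ {X Y : Scheme.{u}} [IsNoetherian X] [IsNoetherian Y] (f : X ⟶ Y) [IsSeparated f]
      [LocallyOfFiniteType f], (∀ x : X, P (X.fromSpecStalk x ≫ f)) → P f)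
    (hβ₂ : ∀ {X Y : Scheme.{u}} [IsNoetherian X] [IsNoetherian Y] (f : X ⟶ Y) [IsSeparated f]
      [LocallyOfFiniteType f], IsOpen {x : X | P (X.fromSpecStalk x ≫ f)})
    {X Y : Scheme.{u}} [IsNoetherian X] [IsNoetherian Y] (f : X ⟶ Y) [IsSeparated f] [EssFT.EssFiniteType f] :
    ((∀ x : X, P (X.fromSpecStalk x ≫ f)) → P f) ∧ IsOpen {x : X | P (X.fromSpecStalk x ≫ f)} ∧
      (P f → ∃ (Z : Scheme.{u}) (i : X ⟶ Z) (h : Z ⟶ Y), IsNoetherian Z ∧ LocImm.IsLocImmersion i ∧
        IsSeparated h ∧ LocallyOfFiniteType h ∧ QuasiCompact h ∧ P h ∧ i ≫ h = f) := by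
  obtain ⟨M, k, p, _, hk, _, _, _, rfl⟩ := hasModel f
  have hiff : ∀ x : X, P (X.fromSpecStalk x ≫ k ≫ p) ↔ P (M.fromSpecStalk (k x) ≫ p) :=
    fun x => stalk_iff hα k p hk x
  let O : M.Opens := ⟨{y | P (M.fromSpecStalk y ≫ p)}, hβ₂ p⟩
  haveI := isNoetherian_opens O
  have hfac : (∀ x : X, P (X.fromSpecStalk x ≫ k ≫ p)) →
      ∃ i : X ⟶ O.toScheme, LocImm.IsLocImmersion i ∧ i ≫ O.ι = k ∧ P (O.ι ≫ p) := fun h => by
    let i : X ⟶ O.toScheme := IsOpenImmersion.lift O.ι k (by
      rw [Scheme.Opens.range_ι]; rintro _ ⟨x, rfl⟩; exact (hiff x).1 (h x))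
    refine ⟨i, isLocImmersion_of_comp_isOpenImmersion i O.ι (by rwa [IsOpenImmersion.lift_fac]),
      IsOpenImmersion.lift_fac _ _ _, hβ₁ _ fun z => ?_⟩
    exact (stalk_iff hα O.ι p (isLocImmersion_of_isOpenImmersion _) z).2 z.2
  refine ⟨fun h => ?_, ?_, fun h => ?_⟩
  · obtain ⟨i, hi, hik, hP⟩ := hfac h
    haveI : EssFT.EssFiniteType (O.ι ≫ p) := { }
    rw [← hik, Category.assoc]
    exact hα i _ hi hP
  · have : {x : X | P (X.fromSpecStalk x ≫ k ≫ p)} = (fun x => k x) ⁻¹' (O : Set M) := Set.ext fun x => hiff x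
    rw [this]
    exact O.2.preimage k.continuous
  · obtain ⟨i, hi, hik, hP⟩ := hfac fun x => by
      haveI := isNoetherian_spec_stalk x
      exact hα _ _ (isLocImmersion_fromSpecStalk x) h
    exact ⟨O, i, O.ι ≫ p, inferInstance, hi, inferInstance, inferInstance, inferInstance, hP,
      by rw [reassoc_of% hik]⟩

end

theorem isProper_of_universallyClosed [IsNoetherian X] [IsNoetherian Y] (f : X ⟶ Y) [IsSeparated f]
    [EssFT.LocallyEssFiniteType f] [UniversallyClosed f] : IsProper f := by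
  obtain ⟨M, k, p, _, hk, _, _, _, rfl⟩ := hasModel f
  haveI : UniversallyClosed k := UniversallyClosed.of_comp_of_isSeparated k p
  haveI : IsOpenImmersion k := S18205.result k hk k.isClosedMap.isClosed_range
  exact { }

end Groth.Agent.LocImmX
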