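import Groth.Agent.LocImmX.Glue
import Mathlib.AlgebraicGeometry.ZariskisMainTheorem

/-!
# Separated morphisms essentially of finite type factor as localizing immersion and finite type
-/

set_option autoImplicit false
set_option backward.isDefEq.respectTransparency false
set_option backward.isDefEq.respectTransparency.types false

universe u

open CategoryTheory CategoryTheory.Limits AlgebraicGeometry TopologicalSpace

namespace Groth.Agent.LocImmX

/-- A factorization as a localizing immersion followed by a separated morphism of finite type. -/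
def HasModel {X S : Scheme.{u}} (f : X ⟶ S) : Prop :=
  ∃ (Y : Scheme.{u}) (k : X ⟶ Y) (p : Y ⟶ S), IsNoetherian Y ∧ LocImm.IsLocImmersion k ∧ IsSeparated p ∧
    LocallyOfFiniteType p ∧ QuasiCompact p ∧ k ≫ p = f

theorem isLocImmersion_specMap {A B : CommRingCat.{u}} (φ : A ⟶ B) (h : LocImm.IsLocHom φ.hom) :
    LocImm.IsLocImmersion (Spec.map φ) := by
  refine isLocImmersion_of_charts _ fun x => ⟨⊤, trivial, isAffineOpen_top _, isAffineOpen_top _, ?_⟩
  exact isLocHom_of_arrow_iso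
    (Arrow.isoMk (Scheme.ΓSpecIso A).symm (Scheme.ΓSpecIso B).symm (Scheme.ΓSpecIso_inv_naturality φ).symm) h

theorem hasModel_affine {X S : Scheme.{u}} [IsNoetherian X] [IsNoetherian S] (f : X ⟶ S) {U : S.Opens}
    (hU : IsAffineOpen U) {V : X.Opens} (hV : IsAffineOpen V) (e : V ≤ f ⁻¹ᵁ U)
    (h : (f.appLE U V e).hom.EssFiniteType) : HasModel (V.ι ≫ f) := by
  haveI : IsNoetherianRing Γ(S, U) := IsLocallyNoetherian.component_noetherian ⟨U, hU⟩
  haveI := isNoetherian_opens V
  letI : Algebra Γ(S, U) Γ(X, V) := (f.appLE U V e).hom.toAlgebra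
  haveI : Algebra.EssFiniteType Γ(S, U) Γ(X, V) := h
  let C := Algebra.EssFiniteType.subalgebra Γ(S, U) Γ(X, V)
  haveI : IsNoetherianRing C := Algebra.FiniteType.isNoetherianRing Γ(S, U) C
  let φ : Γ(S, U) ⟶ CommRingCat.of C := CommRingCat.ofHom (algebraMap Γ(S, U) C)
  let ψ : CommRingCat.of C ⟶ Γ(X, V) := CommRingCat.ofHom C.subtype
  have hφψ : φ ≫ ψ = f.appLE U V e := rfl
  haveI : LocallyOfFiniteType (Spec.map φ) := by
    rw [HasRingHomProperty.Spec_iff (P := @LocallyOfFiniteType)]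
    exact RingHom.finiteType_algebraMap.2 inferInstance
  haveI : IsAffine (Spec Γ(S, U)) := inferInstance
  haveI : IsNoetherian (Spec (CommRingCat.of C)) := inferInstance
  haveI : IsAffine V.toScheme := hV
  have hψ : LocImm.IsLocImmersion (Spec.map ψ) :=
    isLocImmersion_specMap ψ ⟨_, Algebra.EssFiniteType.isLocalization Γ(S, U) Γ(X, V)⟩
  refine ⟨Spec (CommRingCat.of C), hV.isoSpec.hom ≫ Spec.map ψ, Spec.map φ ≫ hU.fromSpec, inferInstance, ?_,
    inferInstance, inferInstance, inferInstance, ?_⟩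
  · haveI : IsNoetherian (Spec Γ(X, V)) := by
      haveI : IsNoetherianRing Γ(X, V) := IsLocallyNoetherian.component_noetherian ⟨V, hV⟩
      infer_instance
    exact isLocImmersion_comp _ _ (isLocImmersion_of_isOpenImmersion _) hψ
  · rw [Category.assoc, ← Spec.map_comp_assoc, hφψ, hU.SpecMap_appLE_fromSpec f hV e,
      hV.isoSpec_hom_fromSpec_assoc]

theorem hasModel_of_iSup {X S : Scheme.{u}} [IsNoetherian X] [IsNoetherian S] (f : X ⟶ S) [IsSeparated f]
    {ι : Type u} (V : ι → X.Opens) (h : ∀ i, HasModel ((V i).ι ≫ f)) (s : Finset ι) :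
    HasModel ((s.sup V).ι ≫ f) := by
  classical
  induction s using Finset.induction_on with
  | empty =>
    rw [Finset.sup_empty]
    haveI := isNoetherian_opens (⊥ : X.Opens)
    haveI : IsEmpty (⊥ : X.Opens).toScheme := ⟨fun x => x.2⟩
    haveI : IsOpenImmersion ((⊥ : X.Opens).ι ≫ f) := inferInstance
    exact ⟨_, 𝟙 _, (⊥ : X.Opens).ι ≫ f, inferInstance, isLocImmersion_of_isOpenImmersion _, inferInstance,
      inferInstance, inferInstance, Category.id_comp _⟩
  | insert i s his ih =>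
    rw [Finset.sup_insert]
    let U := V i ⊔ s.sup V
    haveI := isNoetherian_opens U
    have main : ∀ A : X.Opens, A ≤ U → HasModel (A.ι ≫ f) → HasModel ((U.ι ⁻¹ᵁ A).ι ≫ U.ι ≫ f) := by
      rintro A - ⟨Y, k, p, hY, hk, hsep, hlft, hqc, hkp⟩
      haveI := isNoetherian_opens A
      haveI := isNoetherian_opens (U.ι ⁻¹ᵁ A)
      let t := IsOpenImmersion.lift A.ι ((U.ι ⁻¹ᵁ A).ι ≫ U.ι) (by
        rw [Scheme.Opens.range_ι]; rintro _ ⟨z, rfl⟩; exact z.2)
      have ht : t ≫ A.ι = (U.ι ⁻¹ᵁ A).ι ≫ U.ι := IsOpenImmersion.lift_fac _ _ _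
      haveI : IsOpenImmersion (t ≫ A.ι) := by rw [ht]; infer_instance
      haveI : IsOpenImmersion t := IsOpenImmersion.of_comp t A.ι
      refine ⟨Y, t ≫ k, p, hY, isLocImmersion_comp _ _ (isLocImmersion_of_isOpenImmersion _) hk, hsep, hlft, hqc, ?_⟩
      rw [Category.assoc, hkp, reassoc_of% ht]
    obtain ⟨Y₁, k₁, p₁, _, hk₁, _, _, _, h₁⟩ := main (V i) le_sup_left (h i)
    obtain ⟨Y₂, k₂, p₂, _, hk₂, _, _, _, h₂⟩ := main (s.sup V) le_sup_right ih
    exact exists_model_union (U.ι ≫ f) (U.ι ⁻¹ᵁ V i) (U.ι ⁻¹ᵁ s.sup V) (by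
      rw [← Scheme.Hom.preimage_sup]
      exact eq_top_iff.2 fun z _ => z.2) k₁ k₂ p₁ p₂ hk₁ hk₂ h₁ h₂

theorem hasModel {X S : Scheme.{u}} [IsNoetherian X] [IsNoetherian S] (f : X ⟶ S) [IsSeparated f]
    [EssFT.LocallyEssFiniteType f] : HasModel f := by
  choose U V hxV e h using fun x : X => EssFT.LocallyEssFiniteType.exists_appLE_essFiniteType (f := f) x
  obtain ⟨s, hs⟩ := (CompactSpace.isCompact_univ (X := X)).elim_finite_subcover (fun x => ((V x).1 : Set X))
    (fun x => (V x).1.2) (fun x _ => Set.mem_iUnion.2 ⟨x, hxV x⟩)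
  have hh := hasModel_of_iSup f (fun x => (V x).1) (fun x => hasModel_affine f (U x).2 (V x).2 (e x) (h x)) s
  have hsup : (s.sup fun x => (V x).1) = ⊤ := eq_top_iff.2 fun x _ => by
    obtain ⟨i, hi, hxi⟩ := Set.mem_iUnion₂.1 (hs (Set.mem_univ x))
    exact (Finset.le_sup (f := fun x => (V x).1) hi) hxi
  rw [hsup] at hh
  obtain ⟨Y, k, p, hY, hk, hsep, hlft, hqc, hkp⟩ := hh
  haveI := isNoetherian_opens (⊤ : X.Opens)
  refine ⟨Y, X.topIso.inv ≫ k, p, hY, isLocImmersion_comp _ _ (isLocImmersion_of_isOpenImmersion _) hk,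
    hsep, hlft, hqc, ?_⟩
  rw [Category.assoc, hkp, ← Category.assoc]
  convert Category.id_comp f
  exact X.topIso.inv_hom_id

end Groth.Agent.LocImmX
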