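import Groth.Agent.LocImmX.Basic
import Groth.Agent.S18197
import Groth.Prelude.Def_EssFT

/-!
# Spreading out local isomorphisms of morphisms essentially of finite type
-/

set_option autoImplicit false

universe u

open CategoryTheory AlgebraicGeometry TopologicalSpace

namespace Groth.Agent.LocImmX

variable {X Y : Scheme.{u}}

/-- A ring map essentially of finite type which is bijective on the local rings at a prime is
localizing after inverting an element outside the prime. -/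
theorem exists_isLocHom_away {A B : Type u} [CommRing A] [CommRing B] [Algebra A B] [IsNoetherianRing A]
    [Algebra.EssFiniteType A B] (q : Ideal B) [q.IsPrime]
    (hinj : ∀ a : A, (∃ t ∉ q, t * algebraMap A B a = 0) → ∃ s, algebraMap A B s ∉ q ∧ s * a = 0)
    (hsurj : ∀ x : B, ∃ a b : A, algebraMap A B b ∉ q ∧
      ∃ t ∉ q, t * (algebraMap A B b * x - algebraMap A B a) = 0) :
    ∃ g ∉ q, ∀ (B' : Type u) [CommRing B'] [Algebra B B'] [IsLocalization.Away g B'],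
      LocImm.IsLocHom ((algebraMap B B').comp (algebraMap A B)) := by
  classical
  choose a b hb t ht heq using hsurj
  let σ := Algebra.EssFiniteType.finset A B
  let g₀ : B := ∏ x ∈ σ, algebraMap A B (b x) * t x
  have hg₀ : g₀ ∉ q := (q.primeCompl).prod_mem fun x _ => q.primeCompl.mul_mem (hb x) (ht x)
  let I : Ideal A := RingHom.ker ((algebraMap B (Localization.Away g₀)).comp (algebraMap A B))
  obtain ⟨T, hT⟩ := (IsNoetherian.noetherian I : I.FG)
  have hT' : ∀ i ∈ T, ∃ s, algebraMap A B s ∉ q ∧ s * i = 0 := fun i hi => by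
    have hiI : i ∈ I := hT ▸ Submodule.subset_span hi
    rw [RingHom.mem_ker, RingHom.comp_apply,
      IsLocalization.map_eq_zero_iff (Submonoid.powers g₀)] at hiI
    obtain ⟨⟨_, n, rfl⟩, hn⟩ := hiI
    exact hinj i ⟨g₀ ^ n, fun h => hg₀ ((inferInstance : q.IsPrime).mem_of_pow_mem n h), hn⟩
  choose! c hc hci using hT'
  let s : A := ∏ i ∈ T, c i
  have hsI : ∀ x ∈ I, s * x = 0 := by
    intro x hx
    rw [← hT] at hx
    refine Submodule.span_induction (fun i hi => ?_) (mul_zero s) (fun _ _ _ _ h₁ h₂ => by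
      rw [mul_add, h₁, h₂, add_zero]) (fun r x _ h => by rw [smul_eq_mul, mul_left_comm, h, mul_zero]) hx
    show (∏ i ∈ T, c i) * i = 0
    rw [← Finset.prod_erase_mul T c hi, mul_assoc, hci i hi, mul_zero]
  refine ⟨g₀ * algebraMap A B s,
    q.primeCompl.mul_mem hg₀ (by
      show algebraMap A B (∏ i ∈ T, c i) ∈ q.primeCompl
      rw [map_prod]
      exact q.primeCompl.prod_mem hc), fun B' _ _ _ => ?_⟩
  let ψ := (algebraMap B B').comp (algebraMap A B)
  letI : Algebra A B' := ψ.toAlgebra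
  have hu : IsUnit (algebraMap B B' g₀) ∧ IsUnit (ψ s) := by
    have := IsLocalization.Away.algebraMap_isUnit (S := B') (g₀ * algebraMap A B s)
    rwa [map_mul, IsUnit.mul_iff] at this
  have hσ : ∀ x ∈ σ, ∃ d e, IsUnit (ψ e) ∧ ψ e * algebraMap B B' x = ψ d := fun x hx => by
    have h1 : IsUnit (algebraMap B B' (algebraMap A B (b x) * t x)) :=
      isUnit_of_dvd_unit (map_dvd _ (Finset.dvd_prod_of_mem (fun x => algebraMap A B (b x) * t x) hx)) hu.1
    rw [map_mul, IsUnit.mul_iff] at h1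
    refine ⟨a x, b x, h1.1, ?_⟩
    have h2 := congrArg (algebraMap B B') (heq x)
    rw [map_mul, map_zero, h1.2.mul_right_eq_zero, map_sub, map_mul, sub_eq_zero] at h2
    exact h2
  have hC : ∀ x ∈ Algebra.EssFiniteType.subalgebra A B,
      ∃ d e, IsUnit (ψ e) ∧ ψ e * algebraMap B B' x = ψ d := by
    intro x hx
    induction hx using Algebra.adjoin_induction with
    | mem x hx => exact hσ x hx
    | algebraMap r => exact ⟨r, 1, by simp, by simp [ψ]⟩
    | add x y _ _ hx hy =>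
      obtain ⟨d, e, he, h⟩ := hx
      obtain ⟨d', e', he', h'⟩ := hy
      refine ⟨d * e' + d' * e, e * e', by rw [map_mul]; exact he.mul he', ?_⟩
      simp only [map_mul, map_add, ← h, ← h']
      ring
    | mul x y _ _ hx hy =>
      obtain ⟨d, e, he, h⟩ := hx
      obtain ⟨d', e', he', h'⟩ := hy
      refine ⟨d * d', e * e', by rw [map_mul]; exact he.mul he', ?_⟩
      simp only [map_mul, ← h, ← h']
      ring
  have hB : ∀ x : B, ∃ d e, IsUnit (ψ e) ∧ ψ e * algebraMap B B' x = ψ d := fun x => by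
    obtain ⟨⟨y, u⟩, hyu⟩ := IsLocalization.surj (Algebra.EssFiniteType.submonoid A B) x
    obtain ⟨d, e, he, h⟩ := hC y y.2
    obtain ⟨d', e', he', h'⟩ := hC _ u.1.2
    have hu' : IsUnit (ψ d') := h' ▸ he'.mul ((u.2 : IsUnit _).map (algebraMap B B'))
    refine ⟨d * e', d' * e, by rw [map_mul]; exact hu'.mul he, ?_⟩
    have h3 : algebraMap B B' x * algebraMap B B' u.1.1 = algebraMap B B' y.1 := by
      rw [← map_mul]; exact congrArg _ hyu
    simp only [map_mul, ← h, ← h']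
    rw [← h3]
    ring
  refine ⟨(IsUnit.submonoid B').comap ψ, ⟨fun y => y.2, fun z => ?_, fun {x y} hxy => ?_⟩⟩
  · obtain ⟨n, x, hx⟩ := IsLocalization.Away.surj (g₀ * algebraMap A B s) z
    obtain ⟨d, e, he, h⟩ := hB x
    obtain ⟨d', e', he', h'⟩ := hB ((g₀ * algebraMap A B s) ^ n)
    have hu' : IsUnit (ψ d') :=
      h' ▸ he'.mul (by rw [map_pow]; exact (IsLocalization.Away.algebraMap_isUnit _).pow n)
    refine ⟨(d * e', ⟨d' * e, show IsUnit (ψ (d' * e)) by rw [map_mul]; exact hu'.mul he⟩), ?_⟩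
    show z * ψ (d' * e) = ψ (d * e')
    simp only [map_mul, ← h, ← h', map_pow, ← hx]
    ring
  · have h1 : ψ (x - y) = 0 := by rw [map_sub, sub_eq_zero]; exact hxy
    rw [show ψ (x - y) = algebraMap B B' (algebraMap A B (x - y)) from rfl,
      IsLocalization.map_eq_zero_iff (Submonoid.powers (g₀ * algebraMap A B s))] at h1
    obtain ⟨⟨_, n, rfl⟩, hn⟩ := h1
    have hI : s ^ n * (x - y) ∈ I := by
      rw [RingHom.mem_ker, RingHom.comp_apply, IsLocalization.map_eq_zero_iff (Submonoid.powers g₀)]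
      refine ⟨⟨_, n, rfl⟩, ?_⟩
      show g₀ ^ n * _ = 0
      rw [map_mul, map_pow, ← mul_assoc, ← mul_pow]
      exact hn
    refine ⟨⟨s ^ (n + 1), show IsUnit (ψ (s ^ (n + 1))) from (map_pow ψ s (n + 1)).symm ▸ hu.2.pow _⟩, ?_⟩
    show s ^ (n + 1) * x = s ^ (n + 1) * y
    rw [← sub_eq_zero, ← mul_sub, pow_succ', mul_assoc]
    exact hsI _ hI

/-- A morphism essentially of finite type inducing an isomorphism of local rings is localizing
nearby. -/
theorem exists_affine_localizing [IsLocallyNoetherian Y] (f : X ⟶ Y) [EssFT.LocallyEssFiniteType f]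
    (x : X) [IsIso (f.stalkMap x)] :
    ∃ (U : Y.affineOpens) (V : X.affineOpens) (_ : x ∈ V.1) (e : V.1 ≤ f ⁻¹ᵁ U.1),
      LocImm.IsLocHom (f.appLE U V e).hom := by
  obtain ⟨U, V, hxV, e, hφ⟩ := EssFT.LocallyEssFiniteType.exists_appLE_essFiniteType (f := f) x
  haveI : IsNoetherianRing Γ(Y, U.1) := IsLocallyNoetherian.component_noetherian U
  letI : Algebra Γ(Y, U.1) Γ(X, V.1) := (f.appLE U V e).hom.toAlgebra
  haveI : Algebra.EssFiniteType Γ(Y, U.1) Γ(X, V.1) := hφ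
  let q := (V.2.primeIdealOf ⟨x, hxV⟩).asIdeal
  have hp : ∀ a, algebraMap Γ(Y, U.1) Γ(X, V.1) a ∈ q ↔ a ∈ (U.2.primeIdealOf ⟨f x, e hxV⟩).asIdeal := by
    intro a
    rw [← IsAffineOpen.comap_primeIdealOf_appLE U.1 U.2 V.1 V.2 e hxV]
    exact Iff.rfl
  letI := X.presheaf.algebra_section_stalk ⟨x, hxV⟩
  haveI := V.2.isLocalization_stalk ⟨x, hxV⟩
  letI := Y.presheaf.algebra_section_stalk ⟨f x, e hxV⟩
  haveI := U.2.isLocalization_stalk ⟨f x, e hxV⟩
  have hgerm : ∀ a, (f.stalkMap x).hom (algebraMap Γ(Y, U.1) (Y.presheaf.stalk (f x)) a) =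
      algebraMap Γ(X, V.1) (X.presheaf.stalk x) (algebraMap Γ(Y, U.1) Γ(X, V.1) a) := fun a => by
    show (Y.presheaf.germ U.1 (f x) (e hxV) ≫ f.stalkMap x).hom a =
      (f.appLE U V e ≫ X.presheaf.germ V.1 x hxV).hom a
    rw [Scheme.Hom.germ_stalkMap, Scheme.Hom.appLE, Category.assoc, X.presheaf.germ_res]
  have hbij := ConcreteCategory.bijective_of_isIso (f.stalkMap x)
  obtain ⟨g, hg, hloc⟩ := exists_isLocHom_away (A := Γ(Y, U.1)) q (fun a ⟨t, ht, hta⟩ => by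
    have h1 : algebraMap Γ(X, V.1) (X.presheaf.stalk x) (algebraMap Γ(Y, U.1) Γ(X, V.1) a) = 0 :=
      (IsLocalization.map_eq_zero_iff q.primeCompl _ _).2 ⟨⟨t, ht⟩, hta⟩
    rw [← hgerm, ← map_zero (f.stalkMap x).hom] at h1
    obtain ⟨⟨s, hs⟩, hsa⟩ := (IsLocalization.map_eq_zero_iff
      (U.2.primeIdealOf ⟨f x, e hxV⟩).asIdeal.primeCompl _ _).1 (hbij.1 h1)
    exact ⟨s, fun h => hs ((hp s).1 h), hsa⟩) fun z => by
    obtain ⟨w, hw⟩ := hbij.2 (algebraMap Γ(X, V.1) (X.presheaf.stalk x) z)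
    obtain ⟨⟨a, b⟩, hab⟩ := IsLocalization.surj (U.2.primeIdealOf ⟨f x, e hxV⟩).asIdeal.primeCompl w
    have h1 : algebraMap Γ(X, V.1) (X.presheaf.stalk x)
        (algebraMap Γ(Y, U.1) Γ(X, V.1) b.1 * z - algebraMap Γ(Y, U.1) Γ(X, V.1) a) = 0 := by
      rw [map_sub, map_mul, ← hgerm, ← hgerm, ← hw, ← hab, map_mul, mul_comm, sub_self]
    obtain ⟨t, ht⟩ := (IsLocalization.map_eq_zero_iff q.primeCompl _ _).1 h1
    exact ⟨a, b.1, fun h => b.2 ((hp _).1 h), t.1, t.2, ht⟩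
  have hxg : x ∈ X.basicOpen g := by
    rw [X.mem_basicOpen g x hxV]
    exact IsLocalization.map_units (X.presheaf.stalk x) (⟨g, hg⟩ : q.primeCompl)
  refine ⟨U, ⟨X.basicOpen g, V.2.basicOpen g⟩, hxg, (X.basicOpen_le g).trans e, ?_⟩
  haveI := V.2.isLocalization_basicOpen g
  have := hloc Γ(X, X.basicOpen g)
  convert this using 1
  rw [← f.appLE_map e (homOfLE (X.basicOpen_le g)).op]
  rfl

/-- The image of a set stable under generalisation is separated by an open set from a disjoint set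
stable under generalisation. -/
theorem exists_open_avoid {B T' : Type*} [TopologicalSpace B] [TopologicalSpace T'] [NoetherianSpace B]
    [QuasiSober B] [T0Space B] {q : B → T'} (hq : Continuous q) {T : Set B} (hT : StableUnderGeneralization T) {G : Set T'}
    (hG : StableUnderGeneralization G) (hd : ∀ t ∈ T, q t ∉ G) :
    ∃ V : Set T', IsOpen V ∧ G ⊆ V ∧ ∀ t ∈ T, q t ∉ V := by
  obtain ⟨S, hSf, hSc, hS, hSeq⟩ :=
    NoetherianSpace.exists_finite_set_isClosed_irreducible (isClosed_closure (s := T))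
  let S' : Set (Set B) := {Z ∈ S | (Z ∩ T).Nonempty}
  let P : Set T' := ⋃ Z ∈ S', ⋃ η ∈ {η : B | IsGenericPoint η Z}, closure {q η}
  have hfin : IsClosed P := (hSf.subset fun Z hZ => hZ.1).isClosed_biUnion fun Z hZ =>
    Set.Finite.isClosed_biUnion
      (Set.Subsingleton.finite fun a (ha : IsGenericPoint a Z) b (hb : IsGenericPoint b Z) => ha.eq hb)
      fun _ _ => isClosed_closure
  refine ⟨Pᶜ, hfin.isOpen_compl, fun g hg hgP => ?_, fun t ht htP => htP ?_⟩
  · simp only [P, Set.mem_iUnion] at hgP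
    obtain ⟨Z, ⟨-, w, hwZ, hwT⟩, η, hη, hgη⟩ := hgP
    exact hd η (hT (IsGenericPoint.specializes hη hwZ) hwT) (hG (specializes_iff_mem_closure.2 hgη) hg)
  · obtain ⟨Z, hZ, htZ⟩ := (hSeq ▸ subset_closure ht : t ∈ ⋃₀ S)
    have hgen := (hS Z hZ).isGenericPoint_genericPoint (hSc Z hZ)
    simp only [P, Set.mem_iUnion]
    exact ⟨Z, ⟨hZ, t, htZ, ht⟩, _, hgen, ((hgen.specializes htZ).map hq).mem_closure⟩

/-- A compatible morphism between the targets of two localizing immersions is a localizing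
immersion near the source. -/
theorem exists_open_isLocImmersion {Y₁ Y₂ : Scheme.{u}} [IsNoetherian X] [IsNoetherian Y₁]
    [IsNoetherian Y₂] (f₁ : X ⟶ Y₁) (f₂ : X ⟶ Y₂) (g : Y₁ ⟶ Y₂) (hf₁ : LocImm.IsLocImmersion f₁)
    (hf₂ : LocImm.IsLocImmersion f₂) [IsSeparated g] [EssFT.LocallyEssFiniteType g] (h : f₁ ≫ g = f₂) :
    ∃ U : Y₁.Opens, Set.range (fun x => f₁ x) ⊆ (U : Set Y₁) ∧ LocImm.IsLocImmersion (U.ι ≫ g) := by
  obtain ⟨-, hsg₁, hs₁⟩ := S18203.result f₁ hf₁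
  subst h
  obtain ⟨-, -, hs₂⟩ := S18203.result _ hf₂
  have hiso : ∀ x : X, IsIso (g.stalkMap (f₁ x)) := fun x => by
    haveI := hs₁ x
    haveI := hs₂ x
    haveI : IsIso (g.stalkMap (f₁ x) ≫ f₁.stalkMap x) := Scheme.Hom.stalkMap_comp f₁ g x ▸ hs₂ x
    exact IsIso.of_isIso_comp_right _ (f₁.stalkMap x)
  choose UY VY hyV e hloc using fun x : X =>
    (haveI := hiso x; exists_affine_localizing g (f₁ x))
  let U₀ : Y₁.Opens := ⨆ x, (VY x).1
  obtain ⟨W, hW, hGW, hTW⟩ := exists_open_avoid (B := Y₁) (q := id) continuous_id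
    (T := {η : Y₁ | η ∉ Set.range (fun x => f₁ x) ∧ ∀ z, z ⤳ η → z = η})
    (fun a b hba ha => by rwa [ha.2 b hba]) hsg₁ (fun t ht => ht.1)
  refine ⟨U₀ ⊓ ⟨W, hW⟩, ?_, ?_⟩
  · rintro _ ⟨x, rfl⟩
    exact ⟨Opens.mem_iSup.2 ⟨x, hyV x⟩, hGW ⟨x, rfl⟩⟩
  set U : Y₁.Opens := U₀ ⊓ ⟨W, hW⟩ with hU
  haveI : IsNoetherian U.toScheme :=
    { toIsLocallyNoetherian := isLocallyNoetherian_of_isOpenImmersion U.ι
      toCompactSpace := isCompact_iff_compactSpace.1 (NoetherianSpace.isCompact (U : Set Y₁)) }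
  have hl : LocImm.IsLocalizing (U.ι ≫ g) := by
    intro z
    obtain ⟨x, hx⟩ := Opens.mem_iSup.1 z.2.1
    obtain ⟨r, hr, hzr⟩ := (VY x).2.exists_basicOpen_le (V := U) ⟨z.1, z.2⟩ hx
    have hle : Y₁.basicOpen r ≤ g ⁻¹ᵁ (UY x).1 := (Y₁.basicOpen_le r).trans (e x)
    have h1 : LocImm.IsLocHom (g.appLE (UY x).1 (Y₁.basicOpen r) hle).hom := by
      letI : Algebra Γ(Y₂, (UY x).1) Γ(Y₁, (VY x).1) := (g.appLE _ _ (e x)).hom.toAlgebra
      obtain ⟨M, hM⟩ := hloc x
      letI : Algebra Γ(Y₁, (VY x).1) Γ(Y₁, Y₁.basicOpen r) :=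
        (Y₁.presheaf.map (homOfLE (Y₁.basicOpen_le r)).op).hom.toAlgebra
      letI : Algebra Γ(Y₂, (UY x).1) Γ(Y₁, Y₁.basicOpen r) := (g.appLE _ _ hle).hom.toAlgebra
      haveI : IsScalarTower Γ(Y₂, (UY x).1) Γ(Y₁, (VY x).1) Γ(Y₁, Y₁.basicOpen r) :=
        IsScalarTower.of_algebraMap_eq' (by
          simp only [RingHom.algebraMap_toAlgebra, ← CommRingCat.hom_comp, Scheme.Hom.appLE_map])
      haveI : IsLocalization.Away r Γ(Y₁, Y₁.basicOpen r) := (VY x).2.isLocalization_basicOpen r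
      exact ⟨_, IsLocalization.localization_localization_isLocalization M (Submonoid.powers r) _⟩
    refine ⟨UY x, ⟨U.ι ⁻¹ᵁ Y₁.basicOpen r, ((VY x).2.basicOpen r).preimage_of_isOpenImmersion U.ι
      (by simpa using hr)⟩, hzr, fun w hw => hle hw, ?_⟩
    have e2 : U.ι ''ᵁ (U.ι ⁻¹ᵁ Y₁.basicOpen r) = Y₁.basicOpen r := by
      rw [Scheme.Hom.image_preimage_eq_opensRange_inf, Scheme.Opens.opensRange_ι, inf_eq_right.2 hr]
    haveI : IsIso (U.ι.appLE (Y₁.basicOpen r) (U.ι ⁻¹ᵁ Y₁.basicOpen r) le_rfl) := by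
      rw [← Scheme.Hom.app_eq_appLE]
      exact Scheme.Hom.isIso_app U.ι _ (by simpa using hr)
    refine isLocHom_of_arrow_iso (φ := g.appLE (UY x).1 (Y₁.basicOpen r) hle) (Arrow.isoMk (Iso.refl _)
      (asIso (U.ι.appLE (Y₁.basicOpen r) (U.ι ⁻¹ᵁ Y₁.basicOpen r) le_rfl)) ?_) h1
    simpa using (Scheme.Hom.appLE_comp_appLE U.ι g (UY x).1 (Y₁.basicOpen r) _ hle le_rfl).symm
  refine ⟨hl, (S18197.result _ hl).2 ⟨inferInstance, fun a ha b hb hab => ?_⟩⟩
  have hmax : ∀ c : U.toScheme, (∀ c', c' ⤳ c → c' = c) → ∃ x, f₁ x = c.1 := fun c hc => by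
    by_contra hne
    exact hTW c.1 ⟨fun ⟨x, hx⟩ => hne ⟨x, hx⟩, fun w hw => congrArg Subtype.val
      (hc ⟨w, hw.mem_open U.2 c.2⟩ ((subtype_specializes_iff _ _).2 hw))⟩ c.2.2
  obtain ⟨x, hx⟩ := hmax a ha
  obtain ⟨y, hy⟩ := hmax b hb
  have hxy : x = y := hf₂.2 (by
    show g (f₁ x) = g (f₁ y)
    rw [hx, hy]
    exact hab)
  exact Subtype.ext (by rw [← hx, ← hy, hxy])

end Groth.Agent.LocImmX
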